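import Mathlib

/-!
# Self-dual coprime modules are alternating plus symmetric
-/

set_option autoImplicit false
set_option linter.unusedSectionVars false

namespace CfsgLib.Rep.SelfDualSplit

open Module

variable {F : Type*} [Field F] {G : Type*} [Group G] {V : Type*} [AddCommGroup V] [Module F V]
  [FiniteDimensional F V] (ρ : Representation F G V)

/-- `X` is invariant. -/
def Inv (X : Submodule F V) : Prop := ∀ g : G, ∀ x ∈ X, ρ g x ∈ X

/-- `b` is invariant on `X`. -/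
def InvForm (X : Submodule F V) (b : LinearMap.BilinForm F V) : Prop :=
  ∀ g : G, ∀ x ∈ X, ∀ y ∈ X, b (ρ g x) (ρ g y) = b x y

/-- `b` has no left radical on `X`. -/
def Nd (X : Submodule F V) (b : LinearMap.BilinForm F V) : Prop :=
  ∀ x ∈ X, (∀ y ∈ X, b x y = 0) → x = 0

/-- `X` carries an alternating form. -/
def HasAlt (X : Submodule F V) : Prop :=
  ∃ A : LinearMap.BilinForm F V, (∀ x, A x x = 0) ∧ InvForm ρ X A ∧ Nd X A

/-- `X` carries a symmetric form, and is trivial in characteristic two. -/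
def HasSym (X : Submodule F V) : Prop :=
  ∃ S : LinearMap.BilinForm F V, (∀ x y, S x y = S y x) ∧ InvForm ρ X S ∧ Nd X S ∧
    ((2 : F) = 0 → ∀ g : G, ∀ x ∈ X, ρ g x = x)

/-- The radical of a form, as a functional map restricted to `U`. -/
def resDual (U : Submodule F V) (b : LinearMap.BilinForm F V) : V →ₗ[F] Dual F U :=
  (U.subtype.dualMap).comp b

theorem resDual_apply (U : Submodule F V) (b : LinearMap.BilinForm F V) (x : V) (u : U) :
    resDual U b x u = b x u := rfl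

theorem exists_right {U X : Submodule F V} (b : LinearMap.BilinForm F V) (hdim : finrank F U ≤ finrank F X)
    (hinj : ∀ x ∈ X, (∀ u ∈ U, b x u = 0) → x = 0) (f : Dual F U) : ∃ x ∈ X, ∀ u : U, b x u = f u := by
  have hi : Function.Injective ((resDual U b).comp X.subtype) :=
    (injective_iff_map_eq_zero _).2 fun x hx => Subtype.ext (hinj x x.2 fun u hu => LinearMap.congr_fun hx ⟨u, hu⟩)
  have h1 : finrank F (Dual F U) = finrank F X :=
    le_antisymm (Subspace.dual_finrank_eq.trans_le hdim) (LinearMap.finrank_le_finrank_of_injective hi)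
  obtain ⟨x, hx⟩ := (LinearMap.injective_iff_surjective_of_finrank_eq_finrank h1.symm).1 hi f
  exact ⟨x, x.2, fun u => LinearMap.congr_fun hx u⟩

theorem nd_flip {X : Submodule F V} {b : LinearMap.BilinForm F V} (h : Nd X b) : Nd X b.flip := by
  intro y hy hall
  by_contra hy0
  obtain ⟨f, hf⟩ : ∃ f : Dual F X, f ⟨y, hy⟩ ≠ 0 := by
    by_contra hno
    push Not at hno
    exact hy0 (congrArg Subtype.val ((forall_dual_apply_eq_zero_iff F (⟨y, hy⟩ : X)).1 hno))
  obtain ⟨x, hx, hxf⟩ := exists_right b le_rfl h f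
  exact hf ((hxf ⟨y, hy⟩).symm.trans (hall x hx))

theorem exists_invariant_compl [Finite G] (hG : (Nat.card G : F) ≠ 0) {W X : Submodule F V} (hWX : W ≤ X)
    (hW : Inv ρ W) (hX : Inv ρ X) : ∃ C : Submodule F V, Inv ρ C ∧ C ≤ X ∧ W ⊓ C = ⊥ ∧ W ⊔ C = X := by
  have := Fintype.ofFinite G
  obtain ⟨W', hW'⟩ := Submodule.exists_isCompl W
  set P : V →ₗ[F] V := W.subtype.comp (W.linearProjOfIsCompl W' hW') with hP
  set Q : V →ₗ[F] V := (Nat.card G : F)⁻¹ • ∑ g : G, (ρ g).comp (P.comp (ρ g⁻¹)) with hQ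
  have hQapp : ∀ v, Q v = (Nat.card G : F)⁻¹ • ∑ g : G, ρ g (P (ρ g⁻¹ v)) := fun v => by
    simp [hQ]
  have hQW : ∀ v, Q v ∈ W := fun v => by
    rw [hQapp]
    exact W.smul_mem _ (W.sum_mem fun g _ => hW g _ (Submodule.coe_mem _))
  have hQid : ∀ w ∈ W, Q w = w := fun w hw => by
    rw [hQapp, Finset.sum_congr rfl (g := fun _ => w) fun g _ => by
      have h1 : P (ρ g⁻¹ w) = ρ g⁻¹ w := congrArg Subtype.val
        (Submodule.linearProjOfIsCompl_apply_left hW' ⟨_, hW g⁻¹ w hw⟩)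
      rw [h1]; simp [← Module.End.mul_apply, ← map_mul],
      Finset.sum_const, Finset.card_univ, ← Nat.card_eq_fintype_card, ← Nat.cast_smul_eq_nsmul F, smul_smul,
      inv_mul_cancel₀ hG, one_smul]
  have hQeq : ∀ h v, Q (ρ h v) = ρ h (Q v) := fun h v => by
    rw [hQapp, hQapp, map_smul, map_sum]
    congr 1
    refine Fintype.sum_bijective (fun g => h⁻¹ * g) (Group.mulLeft_bijective _) _ _ fun g => ?_
    simp [← Module.End.mul_apply, ← map_mul, mul_assoc]
    rw [← mul_assoc (ρ h), ← map_mul, mul_inv_cancel_left]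
  refine ⟨X ⊓ LinearMap.ker Q, fun g x hx => ⟨hX g x hx.1, ?_⟩, inf_le_left, ?_, ?_⟩
  · rw [SetLike.mem_coe, LinearMap.mem_ker, hQeq, (hx.2 : Q x = 0), map_zero]
  · rw [eq_bot_iff]
    rintro x ⟨hxW, -, hx0⟩
    rw [Submodule.mem_bot, ← hQid x hxW]
    exact hx0
  · refine le_antisymm (sup_le hWX inf_le_left) fun x hx => Submodule.mem_sup.2
      ⟨Q x, hQW x, x - Q x, ⟨X.sub_mem hx (hWX (hQW x)), ?_⟩, add_sub_cancel _ _⟩
    rw [SetLike.mem_coe, LinearMap.mem_ker, map_sub, hQid _ (hQW x), sub_self]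

theorem exists_irreducible {X : Submodule F V} (hX : Inv ρ X) (hne : X ≠ ⊥) :
    ∃ U : Submodule F V, U ≤ X ∧ Inv ρ U ∧ U ≠ ⊥ ∧ ∀ K ≤ U, Inv ρ K → K = ⊥ ∨ K = U := by
  obtain ⟨U, ⟨hUX, hU, hU0⟩, hmin⟩ := WellFounded.has_min (IsWellFounded.wf (r := (· < ·)))
    {U : Submodule F V | U ≤ X ∧ Inv ρ U ∧ U ≠ ⊥} ⟨X, le_rfl, hX, hne⟩
  refine ⟨U, hUX, hU, hU0, fun K hK hKi => ?_⟩
  by_cases hK0 : K = ⊥
  · exact Or.inl hK0
  · exact Or.inr (by_contra fun hne' => hmin K ⟨hK.trans hUX, hKi, hK0⟩ (lt_of_le_of_ne hK hne'))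

variable {ρ}

theorem inv_perp {X C U : Submodule F V} (hC : Inv ρ C) (hCX : C ≤ X) (hU : Inv ρ U) (hUX : U ≤ X)
    {b : LinearMap.BilinForm F V} (hb : InvForm ρ X b) : Inv ρ (C ⊓ LinearMap.ker (resDual U b)) := by
  intro g x hx
  refine ⟨hC g x hx.1, LinearMap.ext fun u => ?_⟩
  have h1 : ρ g⁻¹ (u : V) ∈ U := hU g⁻¹ _ u.2
  have h2 := hb g x (hCX hx.1) _ (hUX h1)
  simp [← Module.End.mul_apply, ← map_mul] at h2
  rw [resDual_apply, h2]
  exact LinearMap.congr_fun (hx.2 : resDual U b x = 0) ⟨_, h1⟩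

theorem invForm_flip {X : Submodule F V} {b : LinearMap.BilinForm F V} (hb : InvForm ρ X b) :
    InvForm ρ X b.flip := fun g x hx y hy => hb g y hy x hx

theorem proj_left {X Y : Submodule F V} (h : IsCompl X Y) {x : V} (hx : x ∈ X) :
    X.subtype.comp (X.linearProjOfIsCompl Y h) x = x :=
  congrArg Subtype.val (Submodule.linearProjOfIsCompl_apply_left h ⟨x, hx⟩)

theorem proj_right {X Y : Submodule F V} (h : IsCompl X Y) {y : V} (hy : y ∈ Y) :
    X.subtype.comp (X.linearProjOfIsCompl Y h) y = 0 :=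
  congrArg Subtype.val (Submodule.linearProjOfIsCompl_apply_right h ⟨y, hy⟩)

theorem hasSum_forms {X Y : Submodule F V} (hX : Inv ρ X) (hY : Inv ρ Y) (hXY : X ⊓ Y = ⊥)
    {a c : LinearMap.BilinForm F V} (ha : InvForm ρ X a) (ha' : Nd X a) (hc : InvForm ρ Y c) (hc' : Nd Y c) :
    ∃ b : LinearMap.BilinForm F V, InvForm ρ (X ⊔ Y) b ∧ Nd (X ⊔ Y) b ∧
      ((∀ x, a x x = 0) → (∀ x, c x x = 0) → ∀ x, b x x = 0) ∧
      ((∀ x y, a x y = a y x) → (∀ x y, c x y = c y x) → ∀ x y, b x y = b y x) := by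
  obtain ⟨Z, hZ⟩ := Submodule.exists_isCompl (X ⊔ Y)
  have hd : Disjoint X (Y ⊔ Z) := (disjoint_iff.2 hXY).disjoint_sup_right_of_disjoint_sup_left hZ.disjoint
  have hc1 : IsCompl X (Y ⊔ Z) := ⟨hd, codisjoint_iff.2 (by rw [← sup_assoc]; exact hZ.sup_eq_top)⟩
  set P : V →ₗ[F] V := X.subtype.comp (X.linearProjOfIsCompl (Y ⊔ Z) hc1) with hPdef
  obtain ⟨Y', hY'⟩ : ∃ Y' : Submodule F V, IsCompl Y Y' ∧ X ≤ Y' :=
    ⟨X ⊔ Z, ⟨(disjoint_iff.2 (by rw [inf_comm]; exact hXY)).disjoint_sup_right_of_disjoint_sup_left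
      (by rw [sup_comm]; exact hZ.disjoint), codisjoint_iff.2 (by
        rw [← sup_assoc, sup_comm Y X]; exact hZ.sup_eq_top)⟩, le_sup_left⟩
  set Q : V →ₗ[F] V := Y.subtype.comp (Y.linearProjOfIsCompl Y' hY'.1) with hQdef
  have pX : ∀ x ∈ X, P x = x ∧ Q x = 0 := fun x hx => ⟨proj_left hc1 hx, proj_right hY'.1 (hY'.2 hx)⟩
  have pY : ∀ y ∈ Y, P y = 0 ∧ Q y = y := fun y hy =>
    ⟨proj_right hc1 (Submodule.mem_sup_left hy), proj_left hY'.1 hy⟩
  refine ⟨a.compl₁₂ P P + c.compl₁₂ Q Q, fun g u hu v hv => ?_, fun u hu h0 => ?_, fun h1 h2 x => ?_,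
    fun h1 h2 x y => ?_⟩
  · obtain ⟨x, hx, y, hy, rfl⟩ := Submodule.mem_sup.1 hu
    obtain ⟨x', hx', y', hy', rfl⟩ := Submodule.mem_sup.1 hv
    simp [pX x hx, pY y hy, pX x' hx', pY y' hy', pX _ (hX g x hx), pY _ (hY g y hy), pX _ (hX g x' hx'),
      pY _ (hY g y' hy'), ha g x hx x' hx', hc g y hy y' hy']
  · obtain ⟨x, hx, y, hy, rfl⟩ := Submodule.mem_sup.1 hu
    have hx0 : x = 0 := ha' x hx fun x' hx' => by
      have := h0 x' (Submodule.mem_sup_left hx')
      simpa [pX x hx, pY y hy, pX x' hx'] using this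
    have hy0 : y = 0 := hc' y hy fun y' hy' => by
      have := h0 y' (Submodule.mem_sup_right hy')
      simpa [pX x hx, pY y hy, pY y' hy'] using this
    rw [hx0, hy0, add_zero]
  · simp [h1, h2]
  · simp only [LinearMap.add_apply, LinearMap.compl₁₂_apply]
    rw [h1, h2]

theorem orth {X P : Submodule F V} {b : LinearMap.BilinForm F V} (hX : Inv ρ X) (hP : Inv ρ P) (hPX : P ≤ X)
    (hb : InvForm ρ X b) (hn : Nd X b) (hnP : Nd P b) :
    ∃ X' : Submodule F V, Inv ρ X' ∧ X' ≤ X ∧ Nd X' b ∧ P ⊓ X' = ⊥ ∧ P ⊔ X' = X := by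
  have hnP' := nd_flip hnP
  refine ⟨X ⊓ LinearMap.ker (resDual P b.flip), inv_perp hX le_rfl hP hPX (invForm_flip hb), inf_le_left, ?_, ?_, ?_⟩
  · intro x hx h0
    obtain ⟨u, hu, hux⟩ := exists_right b le_rfl hnP (resDual P b x)
    have h1 : x - u = 0 := hn _ (X.sub_mem hx.1 (hPX hu)) fun y hy => by
      obtain ⟨v, hv, hvy⟩ := exists_right b.flip le_rfl hnP' (resDual P b.flip y)
      have hw : y - v ∈ X ⊓ LinearMap.ker (resDual P b.flip) := ⟨X.sub_mem hy (hPX hv), LinearMap.ext fun s => by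
        have := hvy s
        simp only [resDual_apply, LinearMap.flip_apply] at this
        simp [resDual_apply, this]⟩
      have e1 := h0 _ hw
      have e2 : b u (y - v) = 0 := LinearMap.congr_fun (hw.2 : resDual P b.flip (y - v) = 0) ⟨u, hu⟩
      have e3 : b u v = b x v := hux ⟨v, hv⟩
      simp only [map_sub] at e1 e2
      rw [map_sub, LinearMap.sub_apply]
      linear_combination e1 - e2 - e3
    rw [sub_eq_zero] at h1
    have hu0 : u = 0 := hnP' u hu fun s hs => LinearMap.congr_fun (h1 ▸ hx.2 : resDual P b.flip u = 0) ⟨s, hs⟩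
    rw [h1, hu0]
  · rw [eq_bot_iff]
    rintro x ⟨hxP, -, hx0⟩
    exact hnP' x hxP fun s hs => LinearMap.congr_fun (hx0 : resDual P b.flip x = 0) ⟨s, hs⟩
  · refine le_antisymm (sup_le hPX inf_le_left) fun x hx => ?_
    obtain ⟨v, hv, hvx⟩ := exists_right b.flip le_rfl hnP' (resDual P b.flip x)
    refine Submodule.mem_sup.2 ⟨v, hv, x - v, ⟨X.sub_mem hx (hPX hv), LinearMap.ext fun s => ?_⟩,
      add_sub_cancel _ _⟩
    have := hvx s
    simp only [resDual_apply, LinearMap.flip_apply] at this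
    simp [resDual_apply, this]

theorem irreducible_nd {U : Submodule F V} (hU : Inv ρ U) (hirr : ∀ K ≤ U, Inv ρ K → K = ⊥ ∨ K = U)
    {b : LinearMap.BilinForm F V} (hb : InvForm ρ U b) (hne : ∃ x ∈ U, ∃ y ∈ U, b x y ≠ 0) : Nd U b := by
  intro x hx h0
  rcases hirr _ inf_le_left (inv_perp hU le_rfl hU le_rfl hb) with h | h
  · have : x ∈ U ⊓ LinearMap.ker (resDual U b) := ⟨hx, LinearMap.ext fun u => h0 u u.2⟩
    rw [h] at this
    exact (Submodule.mem_bot F).1 this
  · obtain ⟨a, ha, c, hc, hac⟩ := hne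
    rw [← h] at ha
    exact absurd (LinearMap.congr_fun (ha.2 : resDual U b a = 0) ⟨c, hc⟩) hac

theorem irreducible_form {U : Submodule F V} (hU : Inv ρ U) (hirr : ∀ K ≤ U, Inv ρ K → K = ⊥ ∨ K = U)
    {b : LinearMap.BilinForm F V} (hb : InvForm ρ U b) (hn : Nd U b) : HasAlt ρ U ∨ HasSym ρ U := by
  by_cases hskew : ∃ x ∈ U, ∃ y ∈ U, (b - b.flip) x y ≠ 0
  · refine Or.inl ⟨b - b.flip, fun x => by simp, fun g x hx y hy => ?_, ?_⟩
    · simp [hb g x hx y hy, hb g y hy x hx]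
    · exact irreducible_nd hU hirr (fun g x hx y hy => by simp [hb g x hx y hy, hb g y hy x hx]) hskew
  push Not at hskew
  have hsym : ∀ x ∈ U, ∀ y ∈ U, b x y = b y x := fun x hx y hy => sub_eq_zero.1 (hskew x hx y hy)
  obtain ⟨U', hU'⟩ := Submodule.exists_isCompl U
  set P : V →ₗ[F] V := U.subtype.comp (U.linearProjOfIsCompl U' hU') with hPdef
  have hPid : ∀ x ∈ U, P x = x := fun x hx => congrArg Subtype.val
    (Submodule.linearProjOfIsCompl_apply_left hU' ⟨x, hx⟩)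
  have hPU : ∀ x, P x ∈ U := fun x => Submodule.coe_mem _
  have hi : InvForm ρ U (b.compl₁₂ P P) := fun g x hx y hy => by
    simp only [LinearMap.compl₁₂_apply, hPid _ (hU g x hx), hPid _ (hU g y hy), hPid x hx, hPid y hy]
    exact hb g x hx y hy
  have hn2 : Nd U (b.compl₁₂ P P) := fun x hx h0 => hn x hx fun y hy => by
    have := h0 y hy
    rwa [LinearMap.compl₁₂_apply, hPid x hx, hPid y hy] at this
  by_cases h2 : (2 : F) = 0
  · have hadd : ∀ x ∈ U, ∀ y ∈ U, b (x + y) (x + y) = b x x + b y y := fun x hx y hy => by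
      simp only [map_add, LinearMap.add_apply]
      linear_combination hsym x hx y hy + b y x * h2
    let K : Submodule F V :=
      { carrier := {x | x ∈ U ∧ b x x = 0}
        zero_mem' := ⟨U.zero_mem, by simp⟩
        add_mem' := fun {x y} hx hy => ⟨U.add_mem hx.1 hy.1, by rw [hadd x hx.1 y hy.1, hx.2, hy.2, add_zero]⟩
        smul_mem' := fun c x hx => ⟨U.smul_mem c hx.1, by simp [hx.2]⟩ }
    rcases hirr K (fun x hx => hx.1) (fun g x hx => ⟨hU g x hx.1, (hb g x hx.1 x hx.1).trans hx.2⟩) with hK | hK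
    · refine Or.inr ⟨b.compl₁₂ P P, fun x y => hsym _ (hPU x) _ (hPU y), hi, hn2, fun _ g x hx => ?_⟩
      have hmem : ρ g x + x ∈ K := ⟨U.add_mem (hU g x hx) hx, by
        rw [hadd _ (hU g x hx) x hx, hb g x hx x hx]; linear_combination b x x * h2⟩
      rw [hK, Submodule.mem_bot, add_eq_zero_iff_eq_neg] at hmem
      rw [hmem, neg_eq_iff_add_eq_zero, ← two_smul F x, h2, zero_smul]
    · refine Or.inl ⟨b.compl₁₂ P P, fun x => ?_, hi, hn2⟩
      have : P x ∈ K := hK ▸ hPU x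
      exact this.2
  · exact Or.inr ⟨b.compl₁₂ P P, fun x y => hsym _ (hPU x) _ (hPU y), hi, hn2, fun h => absurd h h2⟩

theorem exists_dual_summand [Finite G] (hG : (Nat.card G : F) ≠ 0) {X U : Submodule F V} (hX : Inv ρ X)
    (hU : Inv ρ U) (hUX : U ≤ X) (hirr : ∀ K ≤ U, Inv ρ K → K = ⊥ ∨ K = U)
    {b : LinearMap.BilinForm F V} (hb : InvForm ρ X b) (hn : Nd X b) (hzero : ∀ x ∈ U, ∀ y ∈ U, b x y = 0) :
    ∃ C : Submodule F V, Inv ρ C ∧ C ≤ X ∧ finrank F U ≤ finrank F C ∧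
      (∀ x ∈ C, (∀ u ∈ U, b u x = 0) → x = 0) ∧ (∀ x ∈ C, (∀ u ∈ U, b x u = 0) → x = 0) := by
  -- complements of both annihilators
  have key : ∀ c : LinearMap.BilinForm F V, InvForm ρ X c → Nd X c.flip →
      ∃ C : Submodule F V, Inv ρ C ∧ C ≤ X ∧ finrank F U ≤ finrank F C ∧
        (∀ x ∈ C, (∀ u ∈ U, c x u = 0) → x = 0) ∧
        ∀ v ∈ X, ∃ w ∈ C, ∀ u ∈ U, c w u = c v u := by
    intro c hc hcn
    obtain ⟨C, hC, hCX, hd, hs⟩ := exists_invariant_compl ρ hG (inf_le_left : X ⊓ LinearMap.ker (resDual U c) ≤ X)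
      (inv_perp hX le_rfl hU hUX hc) hX
    have hv : ∀ v ∈ X, ∃ w ∈ C, ∀ u ∈ U, c w u = c v u := by
      intro v hv
      rw [← hs, Submodule.mem_sup] at hv
      obtain ⟨r, hr, w, hw, rfl⟩ := hv
      refine ⟨w, hw, fun u hu => ?_⟩
      rw [map_add, LinearMap.add_apply, show c r u = 0 from LinearMap.congr_fun (hr.2 : resDual U c r = 0) ⟨u, hu⟩,
        zero_add]
    have hi : ∀ x ∈ C, (∀ u ∈ U, c x u = 0) → x = 0 := fun x hx h0 => by
      have : x ∈ (X ⊓ LinearMap.ker (resDual U c)) ⊓ C := ⟨⟨hCX hx, LinearMap.ext fun u => h0 u u.2⟩, hx⟩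
      rw [hd] at this
      exact (Submodule.mem_bot F).1 this
    refine ⟨C, hC, hCX, ?_, hi, hv⟩
    refine LinearMap.finrank_le_finrank_of_injective (f := ((C.subtype.dualMap).comp c.flip).comp U.subtype)
      ((injective_iff_map_eq_zero _).2 fun u hu => Subtype.ext (hcn u (hUX u.2) fun v hv' => ?_)) |>.trans ?_
    · obtain ⟨w, hw, hwu⟩ := hv v hv'
      show c v (u : V) = 0
      rw [← hwu u u.2]
      exact LinearMap.congr_fun hu ⟨w, hw⟩
    · exact le_of_eq Subspace.dual_finrank_eq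
  obtain ⟨C₁, h1i, h1X, h1d, h1inj, h1v⟩ := key b.flip (invForm_flip hb) hn
  obtain ⟨C₂, h2i, h2X, h2d, h2inj, -⟩ := key b hb (nd_flip hn)
  by_cases hC1 : ∀ x ∈ C₁, ∀ u ∈ U, b x u = 0
  · let C : Submodule F V :=
      { carrier := {x | ∃ c ∈ C₁, ∃ w ∈ C₂, ∃ d ∈ C₁, x = c + w - d ∧ (∀ u ∈ U, b u w = b u d) ∧
          ∀ u ∈ U, b w u = b u c}
        zero_mem' := ⟨0, C₁.zero_mem, 0, C₂.zero_mem, 0, C₁.zero_mem, by simp, by simp, by simp⟩
        add_mem' := by
          rintro _ _ ⟨c, hc, w, hw, d, hd, rfl, e1, e2⟩ ⟨c', hc', w', hw', d', hd', rfl, e1', e2'⟩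
          refine ⟨c + c', C₁.add_mem hc hc', w + w', C₂.add_mem hw hw', d + d', C₁.add_mem hd hd', by abel,
            fun u hu => by simp [e1 u hu, e1' u hu], fun u hu => by simp [e2 u hu, e2' u hu]⟩
        smul_mem' := by
          rintro a _ ⟨c, hc, w, hw, d, hd, rfl, e1, e2⟩
          exact ⟨a • c, C₁.smul_mem a hc, a • w, C₂.smul_mem a hw, a • d, C₁.smul_mem a hd,
            by rw [smul_sub, smul_add], fun u hu => by simp [e1 u hu], fun u hu => by simp [e2 u hu]⟩ }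
    have hprop : ∀ x ∈ C, ∀ u ∈ U, b x u = b u x := by
      rintro _ ⟨c, hc, w, hw, d, hd, rfl, e1, e2⟩ u hu
      simp only [map_add, map_sub, LinearMap.add_apply, LinearMap.sub_apply, hC1 c hc u hu, hC1 d hd u hu,
        e1 u hu, e2 u hu]
      abel
    have hinj : ∀ x ∈ C, (∀ u ∈ U, b u x = 0) → x = 0 := by
      rintro _ ⟨c, hc, w, hw, d, hd, rfl, e1, e2⟩ h0
      have hc0 : c = 0 := h1inj c hc fun u hu => by
        have := h0 u hu
        simp only [map_add, map_sub, e1 u hu] at this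
        simpa using this
      have hw0 : w = 0 := h2inj w hw fun u hu => by rw [e2 u hu, hc0]; simp
      have hd0 : d = 0 := h1inj d hd fun u hu => by
        show b u d = 0
        rw [← e1 u hu, hw0]; simp
      rw [hc0, hw0, hd0]; simp
    refine ⟨C, ?_, ?_, ?_, hinj, fun x hx h0 => hinj x hx fun u hu => (hprop x hx u hu).symm.trans (h0 u hu)⟩
    · rintro g _ ⟨c, hc, w, hw, d, hd, rfl, e1, e2⟩
      refine ⟨ρ g c, h1i g c hc, ρ g w, h2i g w hw, ρ g d, h1i g d hd, by simp, fun u hu => ?_, fun u hu => ?_⟩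
      · have hu' : ρ g⁻¹ u ∈ U := hU g⁻¹ u hu
        have k1 := hb g _ (hUX hu') w (h2X hw)
        have k2 := hb g _ (hUX hu') d (h1X hd)
        simp [← Module.End.mul_apply, ← map_mul] at k1 k2
        rw [k1, k2, e1 _ hu']
      · have hu' : ρ g⁻¹ u ∈ U := hU g⁻¹ u hu
        have k1 := hb g w (h2X hw) _ (hUX hu')
        have k2 := hb g _ (hUX hu') c (h1X hc)
        simp [← Module.End.mul_apply, ← map_mul] at k1 k2
        rw [k1, k2, e2 _ hu']
    · rintro _ ⟨c, hc, w, hw, d, hd, rfl, -, -⟩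
      exact X.sub_mem (X.add_mem (h1X hc) (h2X hw)) (h1X hd)
    · have hs : Function.Surjective ((resDual U b.flip).comp C.subtype) := fun f => by
        obtain ⟨c, hc, hcf⟩ := exists_right b.flip h1d h1inj f
        obtain ⟨w, hw, hwf⟩ := exists_right b h2d h2inj f
        obtain ⟨d, hd, hdw⟩ := exists_right b.flip h1d h1inj (resDual U b.flip w)
        refine ⟨⟨c + w - d, c, hc, w, hw, d, hd, rfl, fun u hu => (hdw ⟨u, hu⟩).symm,
          fun u hu => (hwf ⟨u, hu⟩).trans (hcf ⟨u, hu⟩).symm⟩, LinearMap.ext fun u => ?_⟩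
        have e1 : b u d = b u w := hdw u
        have e2 : b u c = f u := hcf u
        show b u (c + w - d) = f u
        simp [e1, e2]
      calc finrank F U = finrank F (Dual F U) := Subspace.dual_finrank_eq.symm
        _ ≤ finrank F C := LinearMap.finrank_le_finrank_of_surjective hs
  · refine ⟨C₁, h1i, h1X, h1d, h1inj, fun x hx h0 => ?_⟩
    push Not at hC1
    obtain ⟨x₁, hx₁, u₁, hu₁, hne⟩ := hC1
    set K := C₁ ⊓ LinearMap.ker (resDual U b) with hKdef
    have hK : Inv ρ K := inv_perp h1i h1X hU hUX hb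
    have hxK : x ∈ K := ⟨hx, LinearMap.ext fun u => h0 u u.2⟩
    rcases hirr (U ⊓ LinearMap.ker (resDual K b)) inf_le_left
      (inv_perp hU hUX hK (inf_le_left.trans h1X) hb) with hA | hA
    · exfalso
      have hi : Function.Injective ((resDual K b).comp U.subtype) := (injective_iff_map_eq_zero _).2 fun u hu => by
        have : (u : V) ∈ U ⊓ LinearMap.ker (resDual K b) := ⟨u.2, hu⟩
        rw [hA] at this
        exact Subtype.ext ((Submodule.mem_bot F).1 this)
      have hle : finrank F U ≤ finrank F K :=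
        (LinearMap.finrank_le_finrank_of_injective hi).trans (le_of_eq Subspace.dual_finrank_eq)
      have hle' : finrank F C₁ ≤ finrank F U := by
        refine (LinearMap.finrank_le_finrank_of_injective (f := (resDual U b.flip).comp C₁.subtype)
          ((injective_iff_map_eq_zero _).2 fun y hy => Subtype.ext (h1inj y y.2 fun u hu =>
            LinearMap.congr_fun hy ⟨u, hu⟩))).trans (le_of_eq Subspace.dual_finrank_eq)
      have hKC : K = C₁ := Submodule.eq_of_le_of_finrank_le inf_le_left (hle'.trans hle)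
      rw [← hKC] at hx₁
      exact hne (LinearMap.congr_fun (hx₁.2 : resDual U b x₁ = 0) ⟨u₁, hu₁⟩)
    · refine h1inj x hx fun u hu => ?_
      rw [← hA] at hu
      exact LinearMap.congr_fun (hu.2 : resDual K b u = 0) ⟨x, hxK⟩

theorem decomp [Finite G] (hG : (Nat.card G : F) ≠ 0) :
    ∀ (n : ℕ) (X : Submodule F V), finrank F X = n → Inv ρ X →
      ∀ b : LinearMap.BilinForm F V, InvForm ρ X b → Nd X b →
        ∃ U W : Submodule F V, Inv ρ U ∧ Inv ρ W ∧ U ⊓ W = ⊥ ∧ U ⊔ W = X ∧ HasAlt ρ U ∧ HasSym ρ W := by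
  intro n
  induction n using Nat.strongRecOn with
  | ind n ih =>
    intro X hn hX b hb hnd
    have hbot : ∀ g : G, ∀ x ∈ (⊥ : Submodule F V), ρ g x ∈ (⊥ : Submodule F V) := fun g x hx => by
      simp [(Submodule.mem_bot F).1 hx]
    by_cases hX0 : X = ⊥
    · subst hX0
      refine ⟨⊥, ⊥, hbot, hbot, by simp, by simp, ⟨0, by simp, fun g x _ y _ => by simp, fun x hx _ => by simpa using hx⟩,
        ⟨0, by simp, fun g x _ y _ => by simp, fun x hx _ => by simpa using hx,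
          fun _ g x hx => by simp [(Submodule.mem_bot F).1 hx]⟩⟩
    obtain ⟨U, hUX, hU, hU0, hirr⟩ := exists_irreducible ρ hX hX0
    -- the first summand
    obtain ⟨P, hP, hPX, hP0, hPn, hPform⟩ : ∃ P : Submodule F V, Inv ρ P ∧ P ≤ X ∧ P ≠ ⊥ ∧ Nd P b ∧
        (HasAlt ρ P ∨ HasSym ρ P) := by
      by_cases hne : ∃ x ∈ U, ∃ y ∈ U, b x y ≠ 0
      · have hbU : InvForm ρ U b := fun g x hx y hy => hb g x (hUX hx) y (hUX hy)
        have hn' := irreducible_nd hU hirr hbU hne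
        exact ⟨U, hU, hUX, hU0, hn', irreducible_form hU hirr hbU hn'⟩
      push Not at hne
      obtain ⟨C, hC, hCX, hdim, hi1, hi2⟩ := exists_dual_summand hG hX hU hUX hirr hb hnd hne
      have hUC : U ⊓ C = ⊥ := by
        rw [eq_bot_iff]
        rintro x ⟨hxU, hxC⟩
        exact hi1 x hxC fun u hu => hne u hu x hxU
      have hUleft : ∀ u ∈ U, (∀ c ∈ C, b u c = 0) → u = 0 := fun u hu h0 => by
        by_contra hu0
        obtain ⟨f, hf⟩ : ∃ f : Dual F U, f ⟨u, hu⟩ ≠ 0 := by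
          by_contra hno
          push Not at hno
          exact hu0 (congrArg Subtype.val ((forall_dual_apply_eq_zero_iff F (⟨u, hu⟩ : U)).1 hno))
        obtain ⟨c, hc, hcf⟩ := exists_right b.flip hdim hi1 f
        exact hf ((hcf ⟨u, hu⟩).symm.trans (h0 c hc))
      refine ⟨U ⊔ C, fun g x hx => ?_, sup_le hUX hCX, fun h => hU0 (le_bot_iff.1 (h ▸ le_sup_left)),
        fun x hx h0 => ?_, Or.inl ?_⟩
      · obtain ⟨u, hu, c, hc, rfl⟩ := Submodule.mem_sup.1 hx
        rw [map_add]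
        exact Submodule.add_mem_sup (hU g u hu) (hC g c hc)
      · obtain ⟨u, hu, c, hc, rfl⟩ := Submodule.mem_sup.1 hx
        have hc0 : c = 0 := hi2 c hc fun v hv => by
          have := h0 v (Submodule.mem_sup_left hv)
          simpa [hne u hu v hv] using this
        subst hc0
        rw [add_zero] at h0 ⊢
        exact hUleft u hu fun d hd => h0 d (Submodule.mem_sup_right hd)
      · obtain ⟨Z, hZ⟩ := Submodule.exists_isCompl (U ⊔ C)
        have hc1 : IsCompl U (C ⊔ Z) := ⟨(disjoint_iff.2 hUC).disjoint_sup_right_of_disjoint_sup_left hZ.disjoint,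
          codisjoint_iff.2 (by rw [← sup_assoc]; exact hZ.sup_eq_top)⟩
        have hc2 : IsCompl C (U ⊔ Z) :=
          ⟨(disjoint_iff.2 (by rw [inf_comm]; exact hUC)).disjoint_sup_right_of_disjoint_sup_left
            (by rw [sup_comm]; exact hZ.disjoint),
            codisjoint_iff.2 (by rw [← sup_assoc, sup_comm C U]; exact hZ.sup_eq_top)⟩
        set P := U.subtype.comp (U.linearProjOfIsCompl (C ⊔ Z) hc1) with hPdef
        set Q := C.subtype.comp (C.linearProjOfIsCompl (U ⊔ Z) hc2) with hQdef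
        have pU : ∀ u ∈ U, P u = u ∧ Q u = 0 := fun u hu =>
          ⟨proj_left hc1 hu, proj_right hc2 (Submodule.mem_sup_left hu)⟩
        have pC : ∀ c ∈ C, P c = 0 ∧ Q c = c := fun c hc =>
          ⟨proj_right hc1 (Submodule.mem_sup_left hc), proj_left hc2 hc⟩
        refine ⟨b.compl₁₂ P Q - (b.compl₁₂ P Q).flip, fun x => by simp, fun g x hx y hy => ?_, fun x hx h0 => ?_⟩
        · obtain ⟨u, hu, c, hc, rfl⟩ := Submodule.mem_sup.1 hx
          obtain ⟨v, hv, d, hd, rfl⟩ := Submodule.mem_sup.1 hy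
          simp [pU u hu, pC c hc, pU v hv, pC d hd, pU _ (hU g u hu), pC _ (hC g c hc), pU _ (hU g v hv),
            pC _ (hC g d hd), hb g u (hUX hu) d (hCX hd), hb g v (hUX hv) c (hCX hc)]
        · obtain ⟨u, hu, c, hc, rfl⟩ := Submodule.mem_sup.1 hx
          have hu0 : u = 0 := hUleft u hu fun d hd => by
            have := h0 d (Submodule.mem_sup_right hd)
            simpa [pU u hu, pC c hc, pC d hd] using this
          have hc0 : c = 0 := hi1 c hc fun v hv => by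
            have := h0 v (Submodule.mem_sup_left hv)
            simpa [pU u hu, pC c hc, pU v hv] using this
          rw [hu0, hc0, add_zero]
    obtain ⟨X', hX', hX'X, hn', hd, hs⟩ := orth hX hP hPX hb hnd hPn
    have hlt : finrank F X' < n := by
      rw [← hn]
      refine Submodule.finrank_lt_finrank_of_lt (lt_of_le_of_ne hX'X fun h => hP0 ?_)
      rw [h, inf_eq_left.2 hPX] at hd
      exact hd
    obtain ⟨A, B, hA, hB, hAB, hABs, hAalt, hBsym⟩ := ih _ hlt X' rfl hX' b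
      (fun g x hx y hy => hb g x (hX'X hx) y (hX'X hy)) hn'
    have hsupinv : ∀ {Y Z : Submodule F V}, Inv ρ Y → Inv ρ Z → Inv ρ (Y ⊔ Z) := fun hY hZ g x hx => by
      obtain ⟨u, hu, c, hc, rfl⟩ := Submodule.mem_sup.1 hx
      rw [map_add]
      exact Submodule.add_mem_sup (hY g u hu) (hZ g c hc)
    have hPA : P ⊓ A = ⊥ := le_bot_iff.1 (hd ▸ inf_le_inf_left P (hABs ▸ le_sup_left))
    have hPB : P ⊓ B = ⊥ := le_bot_iff.1 (hd ▸ inf_le_inf_left P (hABs ▸ le_sup_right))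
    rcases hPform with ⟨a, ha1, ha2, ha3⟩ | ⟨a, ha1, ha2, ha3, ha4⟩
    · obtain ⟨c, hc1, hc2, hc3⟩ := hAalt
      obtain ⟨e, he1, he2, he3, -⟩ := hasSum_forms hP hA hPA ha2 ha3 hc2 hc3
      refine ⟨P ⊔ A, B, hsupinv hP hA, hB, ?_, by rw [sup_assoc, hABs, hs], ⟨e, he3 ha1 hc1, he1, he2⟩, hBsym⟩
      exact disjoint_iff.1 ((disjoint_iff.2 hAB).disjoint_sup_left_of_disjoint_sup_right
        (by rw [hABs]; exact disjoint_iff.2 hd))
    · obtain ⟨c, hc1, hc2, hc3, hc4⟩ := hBsym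
      obtain ⟨e, he1, he2, -, he4⟩ := hasSum_forms hP hB hPB ha2 ha3 hc2 hc3
      refine ⟨A, P ⊔ B, hA, hsupinv hP hB, ?_, by rw [sup_comm P B, ← sup_assoc, hABs, sup_comm, hs], hAalt,
        ⟨e, he4 ha1 hc1, he1, he2, fun h2 g x hx => ?_⟩⟩
      · exact disjoint_iff.1 ((disjoint_iff.2 hAB).disjoint_sup_right_of_disjoint_sup_left
          (by rw [hABs]; exact (disjoint_iff.2 hd).symm) |>.mono_right (le_of_eq (sup_comm P B)))
      · obtain ⟨u, hu, v, hv, rfl⟩ := Submodule.mem_sup.1 hx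
        rw [map_add, ha4 h2 g u hu, hc4 h2 g v hv]

end CfsgLib.Rep.SelfDualSplit
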