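import Mathlib.RepresentationTheory.Basic
import Mathlib.FieldTheory.Finite.Basic
import Mathlib.FieldTheory.Finite.GaloisField
import Mathlib.FieldTheory.Minpoly.IsConjRoot
import Mathlib.LinearAlgebra.BilinearMap
import Mathlib.LinearAlgebra.SesquilinearForm.Basic
import Mathlib.LinearAlgebra.Dual.Lemmas
import Mathlib.RingTheory.IntegralDomain
import Mathlib.LinearAlgebra.BilinearForm.Properties

/-!
# Self-dual faithful irreducible representations of abelian groups over finite fields
-/

set_option autoImplicit false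
set_option linter.unusedSectionVars false

namespace CfsgLib.AbelianSelfDual

open Module Polynomial

variable {F : Type*} [Field F] [Fintype F] {H : Type*} [CommGroup H] [Finite H]
variable {V : Type*} [AddCommGroup V] [Module F V] [FiniteDimensional F V]

theorem exists_field_structure (ρ : Representation F H V) (hfaith : Function.Injective ρ)
    (hirr : ∀ U : Submodule F V, (∀ h : H, ∀ u ∈ U, ρ h u ∈ U) → U = ⊥ ∨ U = ⊤) (hV : Nontrivial V) :
    ∃ (E : Subalgebra F (Module.End F V)) (_ : IsField E) (e : H →* E) (L : E ≃ₗ[F] V),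
      (∀ h, ((e h : E) : Module.End F V) = ρ h) ∧ Function.Injective e ∧
      (∀ h a, L (e h * a) = ρ h (L a)) ∧
      Algebra.adjoin F (Set.range fun h => (e h : E)) = ⊤ := by
  classical
  let E : Subalgebra F (Module.End F V) := Algebra.adjoin F (Set.range ρ)
  have hmem : ∀ h, ρ h ∈ E := fun h => Algebra.subset_adjoin ⟨h, rfl⟩
  have hcent : ∀ a ∈ E, ∀ h, Commute (ρ h) a := by
    intro a ha h
    refine Algebra.adjoin_induction (p := fun a _ => Commute (ρ h) a) ?_ ?_ ?_ ?_ ha
    · rintro _ ⟨g, rfl⟩
      exact (Commute.all h g).map ρ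
    · intro c
      exact (Algebra.commutes c (ρ h)).symm
    · intro a b _ _ ha hb
      exact ha.add_right hb
    · intro a b _ _ ha hb
      exact ha.mul_right hb
  have hcomm : ∀ a b : E, a * b = b * a := by
    rintro ⟨a, ha⟩ ⟨b, hb⟩
    apply Subtype.ext
    refine Algebra.adjoin_induction (p := fun a _ => a * b = b * a) ?_ ?_ ?_ ?_ ha
    · rintro _ ⟨g, rfl⟩
      exact (hcent b hb g).eq
    · intro c
      exact Algebra.commutes c b
    · intro x y _ _ hx hy
      rw [add_mul, mul_add, hx, hy]
    · intro x y _ _ hx hy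
      rw [mul_assoc, hy, ← mul_assoc, hx, mul_assoc]
  have hinj : ∀ a : E, a ≠ 0 → Function.Injective (a : Module.End F V) := by
    intro a ha
    rw [← LinearMap.ker_eq_bot]
    refine (hirr _ fun h u hu => ?_).resolve_right fun htop => ha (Subtype.ext (LinearMap.ker_eq_top.1 htop))
    rw [LinearMap.mem_ker] at hu ⊢
    rw [← Module.End.mul_apply, ← (hcent a a.2 h).eq, Module.End.mul_apply, hu, map_zero]
  obtain ⟨v, hv⟩ := exists_ne (0 : V)
  let L₀ : E →ₗ[F] V := (LinearMap.applyₗ v).comp E.val.toLinearMap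
  have hL₀ : ∀ a : E, L₀ a = (a : Module.End F V) v := fun a => rfl
  have hL₀i : Function.Injective L₀ := by
    rw [← LinearMap.ker_eq_bot, LinearMap.ker_eq_bot']
    intro a ha
    by_contra hne
    exact hv (hinj a hne (by rw [map_zero]; exact ha))
  have hL₀s : Function.Surjective L₀ := by
    rw [← LinearMap.range_eq_top]
    refine (hirr _ fun h u hu => ?_).resolve_left fun hbot => hv ?_
    · obtain ⟨a, rfl⟩ := hu
      exact ⟨⟨ρ h, hmem h⟩ * a, rfl⟩
    · have : L₀ 1 ∈ LinearMap.range L₀ := ⟨1, rfl⟩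
      rw [hbot, Submodule.mem_bot, hL₀] at this
      exact this
  haveI : Nontrivial E := ⟨⟨1, 0, fun h => hv (by
    have := congrArg (fun a : E => (a : Module.End F V) v) h
    simpa using this)⟩⟩
  let e : H →* E :=
    { toFun := fun h => ⟨ρ h, hmem h⟩
      map_one' := Subtype.ext (map_one ρ)
      map_mul' := fun a b => Subtype.ext (map_mul ρ a b) }
  refine ⟨E, ?_, e, LinearEquiv.ofBijective L₀ ⟨hL₀i, hL₀s⟩, fun h => rfl,
    fun a b h => hfaith (congrArg Subtype.val h), fun h a => rfl, ?_⟩
  · refine ⟨⟨0, 1, zero_ne_one⟩, hcomm, fun {a} ha => ?_⟩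
    have hmul : Function.Injective (LinearMap.mulLeft F a) := fun b c h => Subtype.ext (LinearMap.ext fun x =>
      hinj a ha (by
        have := congrArg (fun z : E => (z : Module.End F V) x) h
        simpa using this))
    haveI : FiniteDimensional F E := Module.Finite.of_injective L₀ hL₀i
    obtain ⟨b, hb⟩ := LinearMap.surjective_of_injective hmul 1
    exact ⟨b, hb⟩
  · rw [eq_top_iff]
    rintro ⟨a, ha⟩ -
    refine Algebra.adjoin_induction (p := fun a ha => (⟨a, ha⟩ : E) ∈
      Algebra.adjoin F (Set.range fun h => (e h : E))) ?_ ?_ ?_ ?_ ha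
    · rintro _ ⟨g, rfl⟩
      exact Algebra.subset_adjoin ⟨g, rfl⟩
    · intro c
      exact Subalgebra.algebraMap_mem _ c
    · intro x y hx hy h1 h2
      exact Subalgebra.add_mem _ h1 h2
    · intro x y hx hy h1 h2
      exact Subalgebra.mul_mem _ h1 h2

/-- The arithmetic of a faithful character into a finite field. -/
theorem field_facts {E : Type*} [Field E] [Algebra F E] [FiniteDimensional F E] (e : H →* E)
    (he : Function.Injective e) (htop : Algebra.adjoin F (Set.range e) = ⊤) :
    IsCyclic H ∧ Nat.card H ∣ Fintype.card F ^ finrank F E - 1 ∧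
      ∀ d, Nat.card H ∣ Fintype.card F ^ d - 1 → finrank F E ∣ d := by
  classical
  haveI : Finite E := Module.finite_of_finite F
  haveI := Fintype.ofFinite E
  refine ⟨isCyclic_of_subgroup_isDomain e he, ?_, fun d hd => ?_⟩
  · haveI := isCyclic_of_subgroup_isDomain e he
    obtain ⟨g, hg⟩ := IsCyclic.exists_generator (α := H)
    rw [← orderOf_eq_card_of_forall_mem_zpowers hg]
    refine orderOf_dvd_of_pow_eq_one (he ?_)
    rw [map_pow, map_one, ← Nat.card_eq_fintype_card, ← Module.natCard_eq_pow_finrank (K := F) (V := E),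
      Nat.card_eq_fintype_card]
    refine FiniteField.pow_card_sub_one_eq_one _ ?_
    exact fun h0 => one_ne_zero (by
      have : e g * e g⁻¹ = 1 := by rw [← map_mul, mul_inv_cancel, map_one]
      rw [h0, zero_mul] at this
      exact this.symm)
  · rw [← FiniteField.orderOf_frobeniusAlgEquivOfAlgebraic F E]
    refine orderOf_dvd_of_pow_eq_one (AlgEquiv.ext fun x => ?_)
    have hx : x ∈ Algebra.adjoin F (Set.range e) := htop ▸ Algebra.mem_top
    refine Algebra.adjoin_induction (p := fun x _ => (FiniteField.frobeniusAlgEquivOfAlgebraic F E ^ d) x = x)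
      ?_ ?_ ?_ ?_ hx
    · rintro _ ⟨h, rfl⟩
      rw [AlgEquiv.coe_pow, FiniteField.coe_frobeniusAlgEquivOfAlgebraic, pow_iterate]
      show e h ^ Fintype.card F ^ d = e h
      obtain ⟨c, hc⟩ := hd
      rw [show Fintype.card F ^ d = Nat.card H * c + 1 by
        rw [← hc, Nat.sub_add_cancel (Nat.one_le_pow _ _ Fintype.card_pos)],
        ← map_pow, pow_succ, pow_mul, pow_card_eq_one', one_pow, one_mul]
    · intro c
      exact AlgEquiv.commutes _ c
    · intro a b _ _ ha hb
      rw [map_add, ha, hb]
    · intro a b _ _ ha hb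
      rw [map_mul, ha, hb]

theorem frobenius_pow_apply {E : Type*} [Field E] [Algebra F E] [FiniteDimensional F E] (j : ℕ) (x : E) :
    (FiniteField.frobeniusAlgEquivOfAlgebraic F E ^ j) x = x ^ Fintype.card F ^ j := by
  rw [AlgEquiv.coe_pow, FiniteField.coe_frobeniusAlgEquivOfAlgebraic, pow_iterate]

theorem exists_invariant_form {E : Type*} [Field E] [Algebra F E] [FiniteDimensional F E] (e : H →* E)
    (L : E ≃ₗ[F] V) (ρ : Representation F H V) (hL : ∀ h a, L (e h * a) = ρ h (L a)) (j : ℕ)
    (hj : Nat.card H ∣ Fintype.card F ^ j + 1) :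
    ∃ B : LinearMap.BilinForm F V, B.Nondegenerate ∧ ∀ h : H, ∀ x y : V, B (ρ h x) (ρ h y) = B x y := by
  classical
  haveI : Finite E := Module.finite_of_finite F
  let σ := FiniteField.frobeniusAlgEquivOfAlgebraic F E ^ j
  obtain ⟨φ, hφ⟩ : ∃ φ : E →ₗ[F] F, φ 1 ≠ 0 := by
    by_contra hall
    push Not at hall
    exact one_ne_zero ((Module.forall_dual_apply_eq_zero_iff F (1 : E)).1 hall)
  let B : LinearMap.BilinForm F V := LinearMap.mk₂ F (fun x y => φ (L.symm x * σ (L.symm y)))
    (fun a b c => by simp only [map_add, add_mul])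
    (fun c a b => by simp only [map_smul, smul_mul_assoc])
    (fun a b c => by simp only [map_add, mul_add])
    (fun c a b => by simp only [map_smul, mul_smul_comm])
  have hB : ∀ x y, B x y = φ (L.symm x * σ (L.symm y)) := fun x y => rfl
  refine ⟨B, ⟨fun x hx => ?_, fun y hy => ?_⟩, fun h x y => ?_⟩
  · by_contra hne
    have h0 : L.symm x ≠ 0 := fun h => hne (by simpa using congrArg L h)
    apply hφ
    have := hx (L (σ.symm (L.symm x)⁻¹))
    rwa [hB, LinearEquiv.symm_apply_apply, AlgEquiv.apply_symm_apply, mul_inv_cancel₀ h0] at this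
  · by_contra hne
    have h0 : σ (L.symm y) ≠ 0 := fun h => hne (by
      have h' : L.symm y = 0 := σ.injective (h.trans (map_zero σ).symm)
      simpa using congrArg L h')
    apply hφ
    have := hy (L (σ (L.symm y))⁻¹)
    rwa [hB, LinearEquiv.symm_apply_apply, inv_mul_cancel₀ h0] at this
  · have hs : ∀ z, L.symm (ρ h z) = e h * L.symm z := fun z => by
      rw [LinearEquiv.symm_apply_eq, hL, LinearEquiv.apply_symm_apply]
    have hσ : e h * σ (e h) = 1 := by
      rw [frobenius_pow_apply, ← map_pow, ← map_mul, ← pow_succ']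
      obtain ⟨c, hc⟩ := hj
      rw [hc, pow_mul, pow_card_eq_one', one_pow, map_one]
    rw [hB, hB, hs, hs, map_mul σ, mul_mul_mul_comm, hσ, one_mul]

theorem exists_pow_add_one {E : Type*} [Field E] [Algebra F E] [FiniteDimensional F E] (ι : E →ₐ[F] Module.End F V)
    (hι : Function.Injective ι) (e : H →* E) (he : Function.Injective e) (ρ : Representation F H V)
    (hιe : ∀ h, ι (e h) = ρ h) (htop : Algebra.adjoin F (Set.range e) = ⊤)
    (B : LinearMap.BilinForm F V) (hB : B.Nondegenerate) (hinv : ∀ h : H, ∀ x y : V, B (ρ h x) (ρ h y) = B x y) :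
    ∃ j < finrank F E, Nat.card H ∣ Fintype.card F ^ j + 1 := by
  classical
  haveI : Finite E := Module.finite_of_finite F
  haveI := Fintype.ofFinite E
  haveI := isCyclic_of_subgroup_isDomain e he
  obtain ⟨g, hg⟩ := IsCyclic.exists_generator (α := H)
  have hadj : ∀ (P : F[X]) (x y : V), B (aeval (ρ g) P x) y = B x (aeval (ρ g⁻¹) P y) := by
    have hone : ∀ x y, B (ρ g x) y = B x (ρ g⁻¹ y) := fun x y => by
      rw [← hinv g x (ρ g⁻¹ y), ← Module.End.mul_apply, ← map_mul, mul_inv_cancel, map_one, Module.End.one_apply]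
    have hpow : ∀ (k : ℕ) (x y : V), B ((ρ g ^ k) x) y = B x ((ρ g⁻¹ ^ k) y) := by
      intro k
      induction k with
      | zero => simp
      | succ k ih =>
        intro x y
        rw [pow_succ, pow_succ' (ρ g⁻¹), Module.End.mul_apply, ih, hone, ← Module.End.mul_apply]
    intro P
    induction P using Polynomial.induction_on' with
    | add p q hp hq => intro x y; simp [hp, hq]
    | monomial k c =>
      intro x y
      rw [aeval_monomial, aeval_monomial]
      simp [Module.End.mul_apply, Module.algebraMap_end_apply, hpow]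
  have hmin : minpoly F (e g) = minpoly F (e g⁻¹) := by
    refine minpoly.eq_of_irreducible_of_monic (minpoly.irreducible (IsIntegral.of_finite F _)) ?_
      (minpoly.monic (IsIntegral.of_finite F _))
    apply hι
    rw [map_zero, ← aeval_algHom_apply, hιe]
    refine LinearMap.ext fun y => hB.2 _ fun x => ?_
    rw [← hadj, ← hιe, aeval_algHom_apply, minpoly.aeval, map_zero]
    simp
  obtain ⟨σ, hσ⟩ := isConjRoot_iff_exists_algEquiv.1 (show IsConjRoot F (e g⁻¹) (e g) from hmin.symm)
  obtain ⟨⟨j, hj⟩, rfl⟩ := (FiniteField.bijective_frobeniusAlgEquivOfAlgebraic_pow F E).2 σ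
  refine ⟨j, hj, ?_⟩
  rw [← orderOf_eq_card_of_forall_mem_zpowers hg]
  refine orderOf_dvd_of_pow_eq_one (he ?_)
  simp only [frobenius_pow_apply] at hσ
  rw [map_pow, pow_succ, hσ, ← map_mul, inv_mul_cancel]

theorem main (ρ : Representation F H V) (hfaith : Function.Injective ρ)
    (hirr : ∀ U : Submodule F V, (∀ h : H, ∀ u ∈ U, ρ h u ∈ U) → U = ⊥ ∨ U = ⊤) :
    (finrank F V = 1 → (∃ B : LinearMap.BilinForm F V, B.Nondegenerate ∧
        ∀ h : H, ∀ x y : V, B (ρ h x) (ρ h y) = B x y) → Nat.card H ≤ 2) ∧
    (2 ≤ finrank F V → ((∃ B : LinearMap.BilinForm F V, B.Nondegenerate ∧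
        ∀ h : H, ∀ x y : V, B (ρ h x) (ρ h y) = B x y) ↔
      (Even (finrank F V) ∧ Nat.card H ∣ Fintype.card F ^ (finrank F V / 2) + 1))) := by
  by_cases hV : Nontrivial V
  swap
  · haveI := not_nontrivial_iff_subsingleton.1 hV
    have h0 : finrank F V = 0 := Module.finrank_zero_of_subsingleton
    exact ⟨fun h => by omega, fun h => by omega⟩
  obtain ⟨E, hE, e, L, he, hei, hL, htop⟩ := exists_field_structure ρ hfaith hirr hV
  letI : Field E := hE.toField
  letI : Algebra F E := Subalgebra.algebra E
  haveI : FiniteDimensional F E := Module.Finite.equiv L.symm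
  have hn : finrank F E = finrank F V := L.finrank_eq
  obtain ⟨-, hm, hmin⟩ := field_facts e hei htop
  have hfwd : (∃ B : LinearMap.BilinForm F V, B.Nondegenerate ∧
        ∀ h : H, ∀ x y : V, B (ρ h x) (ρ h y) = B x y) →
      ∃ j < finrank F E, Nat.card H ∣ Fintype.card F ^ j + 1 := fun ⟨B, hB, hinv⟩ =>
    exists_pow_add_one E.val Subtype.val_injective e hei ρ he htop B hB hinv
  refine ⟨fun h1 hB => ?_, fun h2 => ⟨fun hB => ?_, fun hd => exists_invariant_form e L ρ hL _ hd.2⟩⟩
  · obtain ⟨j, hj, hd⟩ := hfwd hB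
    rw [hn, h1] at hj
    obtain rfl : j = 0 := by omega
    rw [pow_zero] at hd
    exact Nat.le_of_dvd two_pos hd
  · obtain ⟨j, hj, hd⟩ := hfwd hB
    have h2j : Nat.card H ∣ Fintype.card F ^ (2 * j) - 1 := by
      rw [mul_comm 2 j, pow_mul, show (Fintype.card F ^ j) ^ 2 - 1 =
        (Fintype.card F ^ j + 1) * (Fintype.card F ^ j - 1) by rw [← Nat.sq_sub_sq, one_pow]]
      exact hd.trans (dvd_mul_right _ _)
    obtain ⟨c, hc⟩ := hmin _ h2j
    rw [← hn] at h2 ⊢
    have hc1 : c = 1 := by
      have hj0 : j ≠ 0 := by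
        rintro rfl
        rw [pow_zero] at hd
        have h1 : finrank F E ∣ 1 := hmin 1 (by
          rw [pow_one]
          rcases Nat.eq_or_lt_of_le (Nat.le_of_dvd two_pos hd) with hc2 | hc2
          · have h4 := hm
            rw [hc2] at h4 ⊢
            rcases Nat.even_or_odd (Fintype.card F) with he' | ho
            · have h5 : 2 ∣ Fintype.card F ^ finrank F E := dvd_pow (even_iff_two_dvd.1 he') (by omega)
              have h6 : 0 < Fintype.card F ^ finrank F E := pow_pos Fintype.card_pos _
              omega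
            · obtain ⟨t, ht⟩ := ho
              exact ⟨t, by omega⟩
          · have : Nat.card H = 1 := by have := Nat.card_pos (α := H); omega
            rw [this]
            exact one_dvd _)
        have := Nat.le_of_dvd one_pos h1
        omega
      rcases c with _ | _ | c
      · omega
      · rfl
      · rw [mul_add, mul_add] at hc
        omega
    rw [hc1, mul_one] at hc
    exact ⟨⟨j, by omega⟩, by rwa [show finrank F E / 2 = j by omega]⟩

end CfsgLib.AbelianSelfDual
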