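import Mathlib

/-!
# Simple modules of a group algebra in characteristic `p` and `p`-regular classes

Over an algebraically closed field of characteristic `p` a finite group has as many simple modules
as classes of elements of order prime to `p`.
-/

set_option autoImplicit false

open MonoidAlgebra

namespace CfsgLib.Rep.RegClassCount

section powers

variable {k G : Type*} [Field k] [Group G] [Fintype G]

theorem pow_expand (a : MonoidAlgebra k G) (m : ℕ) :
    a ^ m = ∑ f : Fin m → G, single (List.ofFn f).prod (∏ i, a.coeff (f i)) := by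
  classical
  induction m with
  | zero => simp [MonoidAlgebra.one_def]
  | succ m ih =>
    have ha : a = ∑ g, single g (a.coeff g) := by
      ext y
      rw [MonoidAlgebra.coeff_sum, Finset.sum_apply', Finset.sum_eq_single y] <;>
        simp +contextual [MonoidAlgebra.coeff_single, Finsupp.single_apply]
    rw [pow_succ', ih]
    conv_lhs => arg 1; rw [ha]
    rw [Finset.sum_mul_sum, ← Fintype.sum_prod_type']
    refine Fintype.sum_equiv (Fin.consEquiv fun _ => G) _ _ fun x => ?_
    simp [MonoidAlgebra.single_mul_single, Fin.prod_univ_succ, List.ofFn_succ]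

theorem sum_eq_sum_fixed {p n : ℕ} [Fact p.Prime] [CharP k p] {T : Type*} [Fintype T]
    (r : Equiv.Perm T) (hr : r ^ p ^ n = 1) (W : T → k) (hW : ∀ x, W (r x) = W x)
    [DecidablePred fun x => r x = x] :
    ∑ x, W x = ∑ x ∈ Finset.univ.filter (fun x => r x = x), W x := by
  classical
  set A := Subgroup.zpowers r with hA
  have hAp : IsPGroup p A := by
    obtain ⟨j, -, hj⟩ := (Nat.dvd_prime_pow (Fact.out : p.Prime)).1 (orderOf_dvd_of_pow_eq_one hr)
    exact IsPGroup.of_card (n := j) (by rw [Nat.card_zpowers, hj])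
  have hinv : ∀ (a : A) (x : T), W (a • x) = W x := by
    intro a x
    obtain ⟨j, hj⟩ := (mem_powers_iff_mem_zpowers).2 a.2
    show W ((a : Equiv.Perm T) x) = W x
    rw [← hj]
    clear hj a
    induction j with
    | zero => rfl
    | succ j ih =>
      simp only [pow_succ', Equiv.Perm.mul_apply] at ih ⊢
      rw [hW, ih]
  let π : T → MulAction.orbitRel.Quotient A T := fun x => Quotient.mk'' x
  rw [← Finset.sum_fiberwise Finset.univ π, ← Finset.sum_fiberwise (Finset.univ.filter fun x => r x = x) π]
  refine Finset.sum_congr rfl fun q _ => ?_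
  obtain ⟨x₀, rfl⟩ : ∃ x₀, π x₀ = q := Quotient.inductionOn' q fun x => ⟨x, rfl⟩
  have hfib : ∀ x, π x = π x₀ ↔ x ∈ MulAction.orbit A x₀ := fun x =>
    Quotient.eq''.trans MulAction.orbitRel_apply
  have hconst : ∀ x ∈ Finset.univ.filter (fun x => π x = π x₀), W x = W x₀ := by
    intro x hx
    obtain ⟨a, rfl⟩ := (hfib x).1 (Finset.mem_filter.1 hx).2
    exact hinv a x₀
  by_cases hfix : r x₀ = x₀
  · refine (Finset.sum_subset (fun x hx => ?_) fun x hx hx' => ?_).symm
    · simp only [Finset.mem_filter, Finset.mem_univ, true_and] at hx ⊢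
      exact hx.2
    · exfalso
      apply hx'
      simp only [Finset.mem_filter, Finset.mem_univ, true_and] at hx ⊢
      obtain ⟨a, rfl⟩ := (hfib x).1 hx
      obtain ⟨j, hj⟩ := (mem_powers_iff_mem_zpowers).2 a.2
      have e : a • x₀ = x₀ := by
        show (a : Equiv.Perm T) x₀ = x₀
        rw [← hj]
        clear hj hx hx'
        induction j with
        | zero => rfl
        | succ j ih =>
          simp only [pow_succ', Equiv.Perm.mul_apply] at ih ⊢
          rw [ih, hfix]
      show r (a • x₀) = a • x₀ ∧ π (a • x₀) = π x₀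
      rw [e]
      exact ⟨hfix, rfl⟩
  · have hno : ((Finset.univ.filter fun x => r x = x).filter fun x => π x = π x₀) = ∅ := by
      refine Finset.filter_eq_empty_iff.2 fun x hx he => hfix ?_
      obtain ⟨a, rfl⟩ := (hfib x).1 he
      have h1 : r ((a : Equiv.Perm T) x₀) = (a : Equiv.Perm T) x₀ := (Finset.mem_filter.1 hx).2
      obtain ⟨j, hj⟩ := Subgroup.mem_zpowers_iff.1 a.2
      have hc : Commute r (a : Equiv.Perm T) := hj ▸ (Commute.refl r).zpow_right j
      apply (a : Equiv.Perm T).injective
      rwa [← Equiv.Perm.mul_apply, hc.eq, Equiv.Perm.mul_apply] at h1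
    rw [hno, Finset.sum_empty, Finset.sum_congr rfl hconst, Finset.sum_const]
    obtain ⟨j, hj⟩ := hAp.card_orbit x₀
    have hcard : (Finset.univ.filter fun x => π x = π x₀).card = p ^ j := by
      rw [← hj, ← Fintype.card_subtype, ← Nat.card_eq_fintype_card]
      exact Nat.card_congr (Equiv.subtypeEquivRight hfib)
    rcases j with _ | j
    · exfalso
      rw [pow_zero, Nat.card_eq_one_iff_unique] at hj
      refine hfix ?_
      have := hj.1
      exact congrArg Subtype.val (Subsingleton.elim
        (⟨r x₀, ⟨⟨r, Subgroup.mem_zpowers r⟩, rfl⟩⟩ : MulAction.orbit A x₀)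
        ⟨x₀, MulAction.mem_orbit_self x₀⟩)
    · rw [hcard, nsmul_eq_mul, Nat.cast_pow, CharP.cast_eq_zero, zero_pow (by omega), zero_mul]

/-- a conjugation invariant sum of coefficients of a `p`-power -/
theorem coeff_sum_pow {p : ℕ} [Fact p.Prime] [CharP k p] (n : ℕ) (a : MonoidAlgebra k G)
    (S : Finset G) (hS : ∀ x y : G, x * y ∈ S → y * x ∈ S)
    [DecidablePred fun g => g ^ p ^ n ∈ S] :
    ∑ g ∈ S, (a ^ p ^ n).coeff g =
      (∑ g ∈ Finset.univ.filter (fun g => g ^ p ^ n ∈ S), a.coeff g) ^ p ^ n := by
  classical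
  obtain ⟨m, hm⟩ : ∃ m, p ^ n = m + 1 :=
    ⟨p ^ n - 1, (Nat.sub_add_cancel (pow_pos (Fact.out : p.Prime).pos n)).symm⟩
  rw [sum_pow_char_pow]
  have h1 : ∑ g ∈ S, (a ^ p ^ n).coeff g =
      ∑ f : Fin (m + 1) → G, if (List.ofFn f).prod ∈ S then ∏ i, a.coeff (f i) else 0 := by
    rw [show a ^ p ^ n = a ^ (m + 1) by rw [hm], pow_expand a (m + 1)]
    simp only [MonoidAlgebra.coeff_sum, Finset.sum_apply', MonoidAlgebra.coeff_single,
      Finsupp.single_apply]
    rw [Finset.sum_comm]
    exact Finset.sum_congr rfl fun f _ => Finset.sum_ite_eq S _ _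
  rw [h1]
  let r : Equiv.Perm (Fin (m + 1) → G) :=
    { toFun := fun f i => f (finRotate _ i)
      invFun := fun f i => f ((finRotate _).symm i)
      left_inv := fun f => by funext i; simp
      right_inv := fun f => by funext i; simp }
  have hrpow : ∀ (j : ℕ) (f : Fin (m + 1) → G) (i : Fin (m + 1)),
      (r ^ j) f i = f (((finRotate (m + 1)) ^ j) i) := by
    intro j
    induction j with
    | zero => intro f i; rfl
    | succ j ih =>
      intro f i
      rw [pow_succ, pow_succ', Equiv.Perm.mul_apply, ih, Equiv.Perm.mul_apply]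
      rfl
  have hr : r ^ p ^ n = 1 := by
    have hrot : (finRotate (m + 1)) ^ (m + 1) = 1 := by
      apply Equiv.ext
      intro i
      have : ∀ j : ℕ, ((((finRotate (m + 1)) ^ j) i : Fin (m + 1)) : ℕ) = ((i : ℕ) + j) % (m + 1) := by
        intro j
        induction j with
        | zero => simp [Nat.mod_eq_of_lt i.isLt]
        | succ j ih =>
          rw [pow_succ', Equiv.Perm.mul_apply, finRotate_succ_apply, Fin.val_add, ih, Fin.val_one',
            ← Nat.add_mod, Nat.add_assoc]
      refine Fin.ext ?_
      rw [this, Nat.add_mod_right, Nat.mod_eq_of_lt i.isLt]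
      rfl
    apply Equiv.ext
    intro f
    funext i
    rw [hrpow, hm, hrot]
    rfl
  rw [sum_eq_sum_fixed (p := p) r hr _ fun f => ?_]
  · refine (Finset.sum_filter_of_ne (s := Finset.univ.filter
        fun f => r f = f) (p := fun f => (List.ofFn f).prod ∈ S)
        (f := fun f => if (List.ofFn f).prod ∈ S then ∏ i, a.coeff (f i) else 0)
        fun f _ hne => by_contra fun hn => hne (if_neg hn)).symm.trans
      (Finset.sum_bij (fun g _ => fun _ => g) (fun g hg => ?_) (fun g _ g' _ h => congrFun h 0)
        (fun f hf => ?_) (fun g hg => ?_)).symm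
    · simp only [Finset.mem_filter, Finset.mem_univ, true_and] at hg ⊢
      exact ⟨rfl, by rw [List.ofFn_const, List.prod_replicate, ← hm]; exact hg⟩
    · simp only [Finset.mem_filter, Finset.mem_univ, true_and] at hf
      have hc : f = fun _ => f 0 := by
        funext i
        induction i using Fin.induction with
        | zero => rfl
        | succ i ih =>
          have h := congrFun hf.1 i.castSucc
          change f (finRotate (m + 1) i.castSucc) = f i.castSucc at h
          rw [finRotate_succ_apply, Fin.coeSucc_eq_succ] at h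
          rw [h, ih]
      refine ⟨f 0, ?_, hc.symm⟩
      simp only [Finset.mem_filter, Finset.mem_univ, true_and]
      have h2 := hf.2
      rw [hc, List.ofFn_const, List.prod_replicate] at h2
      exact hm.symm ▸ h2
    · simp only [Finset.mem_filter, Finset.mem_univ, true_and] at hg
      rw [if_pos (by rw [List.ofFn_const, List.prod_replicate, ← hm]; exact hg), Finset.prod_const,
        Finset.card_univ, Fintype.card_fin, ← hm]
  · have hp : (List.ofFn (r f)).prod ∈ S ↔ (List.ofFn f).prod ∈ S := by
      have e1 : List.ofFn (r f) = (List.ofFn fun i : Fin m => f i.succ) ++ [f 0] := by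
        rw [List.ofFn_succ', List.concat_eq_append]
        congr 1
        · congr 1
          funext i
          show f (finRotate (m + 1) i.castSucc) = f i.succ
          rw [finRotate_succ_apply, Fin.coeSucc_eq_succ]
        · show [f (finRotate (m + 1) (Fin.last m))] = [f 0]
          rw [finRotate_last]
      rw [e1, List.prod_append, List.prod_singleton, List.ofFn_succ, List.prod_cons]
      exact ⟨hS _ _, hS _ _⟩
    have hprod : ∏ i, a.coeff (r f i) = ∏ i, a.coeff (f i) :=
      Equiv.prod_comp (finRotate (m + 1)) fun i => a.coeff (f i)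
    simp only [hp, hprod]

end powers

section count

variable {k G : Type*} [Field k] [Group G] [Finite G]

/-- a functional with the trace property is a multiple of the trace -/
theorem exists_eq_smul_trace {V : Type*} [AddCommGroup V] [Module k V] [FiniteDimensional k V]
    (τ : Module.End k V →ₗ[k] k) (hτ : ∀ f g, τ (f * g) = τ (g * f)) :
    ∃ c : k, ∀ f, τ f = c * LinearMap.trace k V f := by
  classical
  let b := Module.finBasis k V
  let e := (LinearMap.toMatrixAlgEquiv b).symm
  rcases Nat.eq_zero_or_pos (Module.finrank k V) with h0 | hpos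
  · refine ⟨0, fun f => ?_⟩
    have : Subsingleton V := Module.finrank_zero_iff.1 h0
    rw [show f = 0 from Subsingleton.elim _ _, map_zero, map_zero, mul_zero]
  let o : Fin (Module.finrank k V) := ⟨0, hpos⟩
  refine ⟨τ (e (Matrix.single o o 1)), fun f => ?_⟩
  have hoff : ∀ i j c, i ≠ j → τ (e (Matrix.single i j c)) = 0 := by
    intro i j c hij
    have h := hτ (e (Matrix.single i i 1)) (e (Matrix.single i j c))
    rw [← map_mul, ← map_mul, Matrix.single_mul_single_same,
      Matrix.single_mul_single_of_ne _ _ _ _ hij.symm, map_zero, map_zero, one_mul] at h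
    exact h
  have hdiag : ∀ i c, τ (e (Matrix.single i i c)) = c * τ (e (Matrix.single o o 1)) := by
    intro i c
    have h := hτ (e (Matrix.single i o c)) (e (Matrix.single o i 1))
    rw [← map_mul, ← map_mul, Matrix.single_mul_single_same, Matrix.single_mul_single_same, mul_one,
      one_mul] at h
    rw [h, show (Matrix.single o o c : Matrix _ _ k) = c • Matrix.single o o 1 by
      rw [Matrix.smul_single, smul_eq_mul, mul_one], map_smul, map_smul, smul_eq_mul]
  conv_lhs => rw [← (LinearMap.toMatrixAlgEquiv b).symm_apply_apply f,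
    Matrix.matrix_eq_sum_single (LinearMap.toMatrixAlgEquiv b f)]
  rw [map_sum, map_sum, LinearMap.trace_eq_matrix_trace k b, Matrix.trace, Finset.mul_sum]
  refine Finset.sum_congr rfl fun i _ => ?_
  rw [map_sum, map_sum, Finset.sum_eq_single i (fun j _ hj => hoff i j _ (Ne.symm hj)) (by simp),
    hdiag, mul_comm]
  rfl

variable {ι : Type*} [Fintype ι] (L : ι → Submodule (MonoidAlgebra k G) (MonoidAlgebra k G))

/-- the action on a quotient of the regular module -/
noncomputable def act (i : ι) :
    MonoidAlgebra k G →ₐ[k] Module.End k (MonoidAlgebra k G ⧸ L i) :=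
  Algebra.lsmul k k _

variable [IsAlgClosed k] (hL : ∀ i, IsCoatom (L i))
  (hne : ∀ i j, Nonempty ((MonoidAlgebra k G ⧸ L i) ≃ₗ[MonoidAlgebra k G] (MonoidAlgebra k G ⧸ L j)) → i = j)

include hL hne

theorem exists_act_eq (F : ∀ i, Module.End k (MonoidAlgebra k G ⧸ L i)) :
    ∃ a, ∀ i, act L i a = F i := by
  classical
  let M : ι → Type _ := fun i => MonoidAlgebra k G ⧸ L i
  haveI hsim : ∀ i, IsSimpleModule (MonoidAlgebra k G) (M i) := fun i =>
    isSimpleModule_iff_isCoatom.2 (hL i)
  haveI : ∀ i, Module.Finite k (M i) := fun i =>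
    Module.Finite.of_surjective ((L i).mkQ.restrictScalars k) (Submodule.mkQ_surjective _)
  have key : ∀ (φ : Module.End (MonoidAlgebra k G) (∀ i, M i)) (x : ∀ i, M i),
      φ (fun i => F i (x i)) = fun i => F i (φ x i) := by
    intro φ x
    have hij : ∀ (i j : ι), i ≠ j → ∀ m, φ (Pi.single i m) j = 0 := by
      intro i j hij m
      let ψ : M i →ₗ[MonoidAlgebra k G] M j :=
        (LinearMap.proj j).comp (φ.comp (LinearMap.single _ M i))
      rcases ψ.bijective_or_eq_zero with h | h
      · exact absurd (hne i j ⟨LinearEquiv.ofBijective ψ h⟩) hij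
      · exact LinearMap.congr_fun h m
    have hii : ∀ i : ι, ∃ c : k, ∀ m, φ (Pi.single i m) i = c • m := by
      intro i
      let ψ : M i →ₗ[MonoidAlgebra k G] M i :=
        (LinearMap.proj i).comp (φ.comp (LinearMap.single _ M i))
      haveI : Nontrivial (M i) := IsSimpleModule.nontrivial (MonoidAlgebra k G) (M i)
      obtain ⟨c, hc⟩ := Module.End.exists_eigenvalue (ψ.restrictScalars k)
      obtain ⟨m₀, hm₀⟩ := hc.exists_hasEigenvector
      refine ⟨c, fun m => ?_⟩
      let ψ' : M i →ₗ[MonoidAlgebra k G] M i :=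
        { toFun := fun y => ψ y - c • y
          map_add' := fun y z => by rw [map_add, smul_add, add_sub_add_comm]
          map_smul' := fun a y => by rw [map_smul, smul_comm c a y, RingHom.id_apply, smul_sub] }
      rcases ψ'.bijective_or_eq_zero with h | h
      · exfalso
        refine hm₀.2 (h.1 ?_)
        rw [map_zero]
        exact sub_eq_zero.2 hm₀.apply_eq_smul
      · exact sub_eq_zero.1 (LinearMap.congr_fun h m)
    choose c hc using hii
    have hx : ∀ y : ∀ i, M i, φ y = fun j => c j • y j := by
      intro y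
      funext j
      conv_lhs => rw [← Finset.univ_sum_single y, map_sum, Finset.sum_apply]
      rw [Finset.sum_eq_single j (fun i _ h => hij i j h _) (by simp), hc]
    rw [hx, hx]
    funext i
    rw [map_smul]
  let Φ : Module.End (Module.End (MonoidAlgebra k G) (∀ i, M i)) (∀ i, M i) :=
    { toFun := fun x i => F i (x i)
      map_add' := fun x y => funext fun i => map_add (F i) _ _
      map_smul' := fun φ x => key φ x ▸ rfl }
  let s : Finset (∀ i, M i) := Finset.univ.biUnion fun i =>
    Finset.univ.image fun j => Pi.single i (Module.finBasis k (M i) j)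
  obtain ⟨a, ha⟩ := jacobson_density Φ s
  refine ⟨a, fun i => (Module.finBasis k (M i)).ext fun j => ?_⟩
  have h := congrFun (ha (Pi.single i (Module.finBasis k (M i) j))
    (Finset.mem_biUnion.2 ⟨i, Finset.mem_univ _, Finset.mem_image_of_mem _ (Finset.mem_univ j)⟩)) i
  change F i (Pi.single (M := M) i (Module.finBasis k (M i) j) i) =
    a • Pi.single (M := M) i (Module.finBasis k (M i) j) i at h
  rw [Pi.single_eq_same] at h
  exact h.symm


theorem finite_quot (i : ι) : Module.Finite k (MonoidAlgebra k G ⧸ L i) :=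
  Module.Finite.of_surjective ((L i).mkQ.restrictScalars k) (Submodule.mkQ_surjective _)

/-- a conjugation invariant sum of coefficients over a set of `p`-power roots is a combination of
the traces in the simple modules -/
theorem exists_trace_combination {p : ℕ} [Fact p.Prime] [CharP k p] [Fintype G]
    (hex : ∀ L' : Submodule (MonoidAlgebra k G) (MonoidAlgebra k G), IsCoatom L' →
      ∃ i, Nonempty ((MonoidAlgebra k G ⧸ L i) ≃ₗ[MonoidAlgebra k G] (MonoidAlgebra k G ⧸ L'))) :
    ∃ N : ℕ, ∀ n ≥ N, ∀ (S : Finset G) (_ : ∀ x y : G, x * y ∈ S → y * x ∈ S)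
      (T : Finset G) (_ : ∀ g, g ∈ T ↔ g ^ p ^ n ∈ S),
      ∃ c : ι → k, ∀ a : MonoidAlgebra k G,
        ∑ g ∈ T, a.coeff g = ∑ i, c i * LinearMap.trace k _ (act L i a) := by
  classical
  haveI := finite_quot L hL hne
  haveI : IsArtinianRing (MonoidAlgebra k G) := IsArtinianRing.of_finite k _
  obtain ⟨N, hN⟩ := IsArtinianRing.isNilpotent_jacobson_bot (R := MonoidAlgebra k G)
  have hker : ∀ r : MonoidAlgebra k G, (∀ i, act L i r = 0) → r ^ N = 0 := by
    intro r hr
    have hmem : r ∈ Ideal.jacobson (⊥ : Ideal (MonoidAlgebra k G)) := by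
      rw [Ideal.jacobson, Ideal.mem_sInf]
      rintro I ⟨-, hI⟩
      obtain ⟨i, ⟨e⟩⟩ := hex I hI.out
      have h1 := LinearMap.congr_fun (hr i) (e.symm (Submodule.Quotient.mk 1))
      change r • e.symm (Submodule.Quotient.mk 1) = 0 at h1
      rw [← map_smul, LinearEquiv.map_eq_zero_iff, ← Submodule.Quotient.mk_smul, smul_eq_mul,
        mul_one, Submodule.Quotient.mk_eq_zero] at h1
      exact h1
    have h2 := Ideal.pow_mem_pow hmem N
    rw [hN] at h2
    exact h2
  refine ⟨N, fun n hn S hS T hT => ?_⟩
  let τ₀ : MonoidAlgebra k G →ₗ[k] k :=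
    { toFun := fun a => ∑ g ∈ T, a.coeff g
      map_add' := fun a b => by simp [Finset.sum_add_distrib]
      map_smul' := fun c a => by simp [Finset.mul_sum] }
  have hTc : ∀ x y : G, x * y ∈ T → y * x ∈ T := by
    intro x y h
    rw [hT] at h ⊢
    have e : (y * x) ^ p ^ n = y * ((x * y) ^ p ^ n * y⁻¹) := by
      have h' : ∀ j : ℕ, (y * x) ^ j = y * ((x * y) ^ j * y⁻¹) := by
        intro j
        induction j with
        | zero => simp
        | succ j ih => rw [pow_succ, pow_succ, ih]; group
      exact h' _
    rw [e]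
    refine hS _ _ ?_
    rwa [inv_mul_cancel_right]
  have hcomm : ∀ a b : MonoidAlgebra k G, τ₀ (a * b) = τ₀ (b * a) := by
    intro a b
    induction a using MonoidAlgebra.induction_linear with
    | zero => simp
    | add a a' ha ha' => rw [add_mul, mul_add, map_add, map_add, ha, ha']
    | single x c =>
      induction b using MonoidAlgebra.induction_linear with
      | zero => simp
      | add b b' hb hb' => rw [add_mul, mul_add, map_add, map_add, hb, hb']
      | single y d =>
        change ∑ g ∈ T, (single x c * single y d).coeff g = ∑ g ∈ T, (single y d * single x c).coeff g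
        simp only [MonoidAlgebra.single_mul_single,
          MonoidAlgebra.coeff_single, Finsupp.single_apply, Finset.sum_ite_eq]
        rw [mul_comm c d]
        exact if_congr ⟨hTc x y, hTc y x⟩ rfl rfl
  have hzero : ∀ r, (∀ i, act L i r = 0) → τ₀ r = 0 := by
    intro r hr
    have hq : N ≤ p ^ n := hn.trans (Nat.lt_pow_self (Fact.out : p.Prime).one_lt).le
    have h := coeff_sum_pow (p := p) n r S hS
    rw [pow_eq_zero_of_le hq (hker r hr), show Finset.univ.filter (fun g => g ^ p ^ n ∈ S) = T by
      ext g; simp [hT]] at h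
    simp only [MonoidAlgebra.coeff_zero, Finsupp.coe_zero, Pi.zero_apply, Finset.sum_const_zero] at h
    exact pow_eq_zero_iff'.1 h.symm |>.1
  let R : MonoidAlgebra k G →ₗ[k] (∀ i, Module.End k (MonoidAlgebra k G ⧸ L i)) :=
    LinearMap.pi fun i => (act L i).toLinearMap
  have hR : Function.Surjective R := fun F => by
    obtain ⟨a, ha⟩ := exists_act_eq L hL hne F
    exact ⟨a, funext ha⟩
  obtain ⟨σ, hσ⟩ := LinearMap.exists_rightInverse_of_surjective R (LinearMap.range_eq_top.2 hR)
  have hfac : ∀ a, τ₀ (σ (R a)) = τ₀ a := by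
    intro a
    rw [← sub_eq_zero, ← map_sub]
    refine hzero _ fun i => ?_
    have h := congrFun (LinearMap.congr_fun hσ (R a)) i
    rw [map_sub, sub_eq_zero]
    exact h
  have hτ : ∀ (i : ι) (f g : Module.End k (MonoidAlgebra k G ⧸ L i)),
      τ₀ (σ (Pi.single i (f * g))) = τ₀ (σ (Pi.single i (g * f))) := by
    intro i f g
    obtain ⟨a, ha⟩ := hR (Pi.single i f)
    obtain ⟨b, hb⟩ := hR (Pi.single i g)
    have hmul : ∀ x y, R (x * y) = R x * R y := fun x y => funext fun j => map_mul (act L j) x y
    rw [Pi.single_mul, Pi.single_mul, ← ha, ← hb, ← hmul, ← hmul, hfac, hfac, hcomm]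
  choose c hc using fun i => exists_eq_smul_trace
    (τ₀.comp (σ.comp (LinearMap.single k (fun i => Module.End k (MonoidAlgebra k G ⧸ L i)) i))) (hτ i)
  refine ⟨c, fun a => ?_⟩
  show τ₀ a = _
  rw [← hfac a]
  conv_lhs => rw [← Finset.univ_sum_single (R a), map_sum, map_sum]
  exact Finset.sum_congr rfl fun i _ => hc i (act L i a)

/-- as many simple modules as classes of `p`-regular elements -/
theorem card_regular_classes {p : ℕ} [Fact p.Prime] [CharP k p]
    (hex : ∀ L' : Submodule (MonoidAlgebra k G) (MonoidAlgebra k G), IsCoatom L' →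
      ∃ i, Nonempty ((MonoidAlgebra k G ⧸ L i) ≃ₗ[MonoidAlgebra k G] (MonoidAlgebra k G ⧸ L'))) :
    Nat.card {c : ConjClasses G // ∃ g : G, ConjClasses.mk g = c ∧ (orderOf g).Coprime p} =
      Fintype.card ι := by
  classical
  haveI : Fintype G := Fintype.ofFinite G
  haveI := finite_quot L hL hne
  set Cl := {c : ConjClasses G // ∃ g : G, ConjClasses.mk g = c ∧ (orderOf g).Coprime p}
  haveI : Fintype Cl := Fintype.ofFinite _
  have hp : p.Prime := Fact.out
  let rep : Cl → G := fun c => c.2.choose
  have hrep : ∀ c : Cl, ConjClasses.mk (rep c) = c.1 ∧ (orderOf (rep c)).Coprime p :=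
    fun c => c.2.choose_spec
  let χ : ι → G → k := fun i g => LinearMap.trace k _ (act L i (single g 1))
  -- the regular part of an element
  have hreg : ∀ g : G, ∃ c : Cl, ∀ i, χ i g = χ i (rep c) := by
    intro g
    set m := Nat.card G
    have hm0 : m ≠ 0 := Nat.card_pos.ne'
    obtain ⟨e, he1, he2⟩ := Nat.chineseRemainder
      ((Nat.coprime_ordCompl hp hm0).pow_left (m.factorization p)) 0 1
    have hge : (g ^ e) ^ (ordCompl[p] m) = 1 := by
      rw [← pow_mul]
      refine orderOf_dvd_iff_pow_eq_one.1 ((orderOf_dvd_natCard g).trans ?_)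
      obtain ⟨t, ht⟩ := Nat.modEq_zero_iff_dvd.1 he1
      exact ⟨t, by rw [ht, mul_right_comm, Nat.ordProj_mul_ordCompl_eq_self]⟩
    have hcop : (orderOf (g ^ e)).Coprime p :=
      ((Nat.coprime_ordCompl hp hm0).symm).coprime_dvd_left (orderOf_dvd_of_pow_eq_one hge)
    let c : Cl := ⟨ConjClasses.mk (g ^ e), g ^ e, rfl, hcop⟩
    refine ⟨c, fun i => ?_⟩
    have hclass : χ i (g ^ e) = χ i (rep c) := by
      obtain ⟨x, hx⟩ := isConj_iff.1 (ConjClasses.mk_eq_mk_iff_isConj.1 (hrep c).1)
      simp only [χ]
      rw [← hx, show (single (x * rep c * x⁻¹) 1 : MonoidAlgebra k G) =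
        single x 1 * single (rep c) 1 * single x⁻¹ 1 by simp [MonoidAlgebra.single_mul_single],
        map_mul (act L i), map_mul (act L i), LinearMap.trace_mul_comm, ← mul_assoc, ← map_mul (act L i),
        MonoidAlgebra.single_mul_single, inv_mul_cancel, mul_one, ← MonoidAlgebra.one_def, map_one,
        one_mul]
    rw [← hclass]
    haveI : CharP (MonoidAlgebra k G) p :=
      charP_of_injective_algebraMap (algebraMap k (MonoidAlgebra k G)).injective p
    set q := p ^ m.factorization p
    have hpow : (g ^ e) ^ q = g ^ q := by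
      rw [← pow_mul]
      refine pow_eq_pow_iff_modEq.2 (Nat.ModEq.of_dvd (orderOf_dvd_natCard g) ?_)
      have h1 : e * q ≡ 1 * q [MOD ordCompl[p] m * q] := Nat.ModEq.mul_right' q he2
      rwa [one_mul, show ordCompl[p] m * q = m by
        rw [mul_comm]; exact Nat.ordProj_mul_ordCompl_eq_self m p] at h1
    have hnil : IsNilpotent (single g (1 : k) - single (g ^ e) 1) := by
      refine ⟨q, ?_⟩
      rw [sub_pow_char_pow_of_commute (x := single g (1 : k)) (y := single (g ^ e) 1) (p := p)
        (h := by
          rw [Commute, SemiconjBy, MonoidAlgebra.single_mul_single, MonoidAlgebra.single_mul_single,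
            (Commute.self_pow g e).eq]),
        MonoidAlgebra.single_pow, MonoidAlgebra.single_pow, hpow, sub_self]
    have h0 := (LinearMap.isNilpotent_trace_of_isNilpotent (hnil.map (act L i))).eq_zero
    rw [map_sub, map_sub, sub_eq_zero] at h0
    exact h0
  -- the table of values
  let Φ : (Cl → k) →ₗ[k] (ι → k) :=
    LinearMap.pi fun i => ∑ c, χ i (rep c) • LinearMap.proj c
  let Ψ : (ι → k) →ₗ[k] (Cl → k) :=
    LinearMap.pi fun c => ∑ i, χ i (rep c) • LinearMap.proj i
  have hΦ : Function.Injective Φ := by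
    rw [injective_iff_map_eq_zero]
    intro x hx
    obtain ⟨N, hN⟩ := exists_trace_combination L hL hne (p := p) hex
    funext c₀
    let S := Finset.univ.filter fun g : G => IsConj g (rep c₀ ^ p ^ N)
    obtain ⟨d, hd⟩ := hN N le_rfl S (fun a b h => by
      simp only [S, Finset.mem_filter, Finset.mem_univ, true_and] at h ⊢
      exact (isConj_iff.2 ⟨a, by group⟩).trans h)
      (Finset.univ.filter fun g => g ^ p ^ N ∈ S) (fun g => by simp)
    have h := hd (∑ c, single (rep c) (x c))
    have hR : ∑ i, d i * LinearMap.trace k _ (act L i (∑ c, single (rep c) (x c))) = 0 := by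
      refine Finset.sum_eq_zero fun i _ => ?_
      have h1 := congrFun hx i
      simp only [Φ, LinearMap.pi_apply, LinearMap.coe_sum, Finset.sum_apply, LinearMap.smul_apply,
        LinearMap.coe_proj, Function.eval, smul_eq_mul, Pi.zero_apply] at h1
      rw [map_sum, map_sum]
      refine mul_eq_zero_of_right _ (Eq.trans (Finset.sum_congr rfl fun c _ => ?_) h1)
      rw [show single (rep c) (x c) = x c • single (rep c) (1 : k) by simp, map_smul, map_smul,
        smul_eq_mul, mul_comm]
    rw [hR] at h
    simp only [MonoidAlgebra.coeff_sum, Finset.sum_apply', MonoidAlgebra.coeff_single,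
      Finsupp.single_apply] at h
    rw [Finset.sum_comm] at h
    simp only [Finset.sum_ite_eq, S, Finset.mem_filter, Finset.mem_univ, true_and] at h
    rw [Finset.sum_eq_single c₀ (fun c _ hne' => if_neg fun hc => hne' ?_) (by simp),
      if_pos (IsConj.refl _)] at h
    · exact h
    obtain ⟨z, hz⟩ := isConj_iff.1 hc
    obtain ⟨m, hm⟩ : ∃ m, m = Nat.lcm (orderOf (rep c)) (orderOf (rep c₀)) := ⟨_, rfl⟩
    have hcop : (p ^ N).Coprime m := by
      refine Nat.Coprime.pow_left N ?_
      rw [hm]
      refine Nat.Coprime.coprime_dvd_right (Nat.lcm_dvd_mul _ _) ?_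
      exact Nat.Coprime.mul_right (hrep c).2.symm (hrep c₀).2.symm
    obtain ⟨e, he⟩ : ∃ e, p ^ N * e ≡ 1 [MOD m] := by
      rcases Nat.lt_or_ge 1 m with h1 | h1
      · obtain ⟨e, -, he⟩ := Nat.exists_mul_mod_eq_one_of_coprime hcop h1
        exact ⟨e, by rw [Nat.ModEq, he, Nat.mod_eq_of_lt h1]⟩
      · have hpos : 0 < m := hm ▸ Nat.lcm_pos (orderOf_pos _) (orderOf_pos _)
        obtain rfl : m = 1 := by omega
        exact ⟨0, Nat.modEq_one⟩
    have hid : ∀ g : G, orderOf g ∣ m → (g ^ p ^ N) ^ e = g := fun g hg => by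
      rw [← pow_mul]
      calc g ^ (p ^ N * e) = g ^ 1 := pow_eq_pow_iff_modEq.2 (he.of_dvd hg)
        _ = g := pow_one g
    have h2 : z * rep c * z⁻¹ = rep c₀ := by
      rw [← hid (rep c) (hm ▸ Nat.dvd_lcm_left _ _), ← conj_pow, hz,
        hid (rep c₀) (hm ▸ Nat.dvd_lcm_right _ _)]
    refine Subtype.ext ?_
    rw [← (hrep c).1, ← (hrep c₀).1, ConjClasses.mk_eq_mk_iff_isConj]
    exact isConj_iff.2 ⟨z, h2⟩
  have hΨ : Function.Injective Ψ := by
    rw [injective_iff_map_eq_zero]
    intro d hd
    have hA : ∀ a : MonoidAlgebra k G, ∑ i, d i * LinearMap.trace k _ (act L i a) = 0 := by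
      intro a
      induction a using MonoidAlgebra.induction_linear with
      | zero => simp
      | add a b ha hb => simp only [map_add, mul_add, Finset.sum_add_distrib, ha, hb, add_zero]
      | single g s =>
        obtain ⟨c, hc⟩ := hreg g
        have h1 := congrFun hd c
        simp only [Ψ, LinearMap.pi_apply, LinearMap.coe_sum, Finset.sum_apply, LinearMap.smul_apply,
          LinearMap.coe_proj, Function.eval, smul_eq_mul, Pi.zero_apply] at h1
        rw [show single g s = s • single g (1 : k) by simp]
        simp only [map_smul, smul_eq_mul]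
        rw [← mul_zero s, ← h1, Finset.mul_sum]
        refine Finset.sum_congr rfl fun i _ => ?_
        rw [← hc i]
        ring
    funext i
    haveI : IsSimpleModule (MonoidAlgebra k G) (MonoidAlgebra k G ⧸ L i) :=
      isSimpleModule_iff_isCoatom.2 (hL i)
    haveI : Nontrivial (MonoidAlgebra k G ⧸ L i) := IsSimpleModule.nontrivial (MonoidAlgebra k G) _
    let b := Module.finBasis k (MonoidAlgebra k G ⧸ L i)
    let o : Fin (Module.finrank k (MonoidAlgebra k G ⧸ L i)) := ⟨0, Module.finrank_pos⟩
    let P : Module.End k (MonoidAlgebra k G ⧸ L i) :=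
      (LinearMap.toMatrixAlgEquiv b).symm (Matrix.single o o 1)
    obtain ⟨a, ha⟩ := exists_act_eq L hL hne (Pi.single i P)
    have h := hA a
    rw [Finset.sum_eq_single i (fun j _ hj => by rw [ha, Pi.single_eq_of_ne hj, map_zero, mul_zero])
      (by simp), ha, Pi.single_eq_same, LinearMap.trace_eq_matrix_trace k b] at h
    rw [show LinearMap.toMatrix b b P = Matrix.single o o 1 from
      (LinearMap.toMatrixAlgEquiv b).apply_symm_apply _, Matrix.trace_single_eq_same, mul_one] at h
    exact h
  rw [Nat.card_eq_fintype_card]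
  exact le_antisymm
    (by simpa [Module.finrank_fintype_fun_eq_card] using LinearMap.finrank_le_finrank_of_injective hΦ)
    (by simpa [Module.finrank_fintype_fun_eq_card] using LinearMap.finrank_le_finrank_of_injective hΨ)

end count

end CfsgLib.Rep.RegClassCount
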