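import Mathlib

/-!
# Normal elements for a free action on a commutative ring with finitely many maximal ideals

If a finite group acts on such a ring and no non-identity element fixes a residue field pointwise,
then some element has invertible matrix of translates.
-/

set_option autoImplicit false
set_option linter.all false

namespace CfsgLib.Rep

open Matrix

/-- the matrix of translates of an element -/
def translateMatrix {X R : Type*} [Group X] [Semiring R] [MulSemiringAction X R] (θ : R) :
    Matrix X X R :=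
  Matrix.of fun g h => (g * h) • θ

/-- for a faithful action on a field some element has nonsingular matrix of translates -/
theorem exists_translateMatrix_field {X K : Type*} [Group X] [Fintype X] [DecidableEq X] [Field K]
    [MulSemiringAction X K] [FaithfulSMul X K] : ∃ θ : K, (translateMatrix (X := X) θ).det ≠ 0 := by
  classical
  obtain ⟨θ, hθ⟩ := exists_linearIndependent_algEquiv_apply (FixedPoints.subfield X K) K
  let e := FixedPoints.toAlgAutMulEquiv X K
  have hli : LinearIndependent (FixedPoints.subfield X K) fun x : X => x • θ :=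
    hθ.comp e e.injective
  have hspan := hli.span_eq_top_of_card_eq_finrank' (FixedPoints.finrank_eq_card X K).symm
  refine ⟨θ, fun hdet => ?_⟩
  obtain ⟨d, hd0, hd⟩ := Matrix.exists_vecMul_eq_zero_iff.2 hdet
  have hchar : LinearIndependent K fun y : X => (fun a : K => y • a) := by
    have h := (linearIndependent_monoidHom K K).comp
      (fun y : X => (MulSemiringAction.toRingHom X K y : K →* K)) (fun a b hab =>
        eq_of_smul_eq_smul fun r : K => DFunLike.congr_fun hab r)
    exact h
  refine hd0 (funext fun y => Fintype.linearIndependent_iff.1 hchar d (funext fun a => ?_) y)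
  rw [Finset.sum_apply]
  show ∑ y, d y * y • a = 0
  have ha : a ∈ Submodule.span (FixedPoints.subfield X K) (Set.range fun x : X => x • θ) :=
    hspan ▸ Submodule.mem_top
  induction ha using Submodule.span_induction with
  | mem b hb =>
    obtain ⟨x, rfl⟩ := hb
    have h := congrFun hd x
    simpa [Matrix.vecMul, dotProduct, translateMatrix, smul_smul] using h
  | zero => simp
  | add b c _ _ hb hc => simp only [smul_add, mul_add, Finset.sum_add_distrib, hb, hc, add_zero]
  | smul c b _ hb =>
    have h : ∀ y : X, y • (c • b) = c • (y • b) := fun y => by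
      show y • ((c : K) * b) = (c : K) * y • b
      rw [smul_mul', c.2 y]
    simp only [h]
    show ∑ y, d y * ((c : K) * y • b) = 0
    calc ∑ y, d y * ((c : K) * y • b) = (c : K) * ∑ y, d y * y • b := by
          rw [Finset.mul_sum]; exact Finset.sum_congr rfl fun y _ => by ring
      _ = 0 := by rw [hb, mul_zero]

variable {X R : Type*} [Group X] [Fintype X] [DecidableEq X] [CommRing R] [MulSemiringAction X R]

/-- some element has invertible matrix of translates -/
theorem exists_translateMatrix [Finite (MaximalSpectrum R)]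
    (hfree : ∀ f : X, f ≠ 1 → ∀ m : Ideal R, m.IsMaximal → ∃ r, f • r - r ∉ m) :
    ∃ θ : R, IsUnit (translateMatrix (X := X) θ).det := by
  classical
  let S : Setoid (MaximalSpectrum R) :=
    { r := fun m m' => ∃ f : X, ∀ r, r ∈ m'.asIdeal ↔ f • r ∈ m.asIdeal
      iseqv :=
        { refl := fun m => ⟨1, fun r => by rw [one_smul]⟩
          symm := fun {m m'} ⟨f, hf⟩ => ⟨f⁻¹, fun r => by rw [hf, smul_inv_smul]⟩
          trans := fun {m m' m''} ⟨f, hf⟩ ⟨g, hg⟩ => ⟨f * g, fun r => by rw [hg, hf, mul_smul]⟩ } }
  let rep : MaximalSpectrum R → MaximalSpectrum R := fun m => Quotient.out (Quotient.mk S m)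
  have hrep : ∀ m, S.r (rep m) m := fun m => Quotient.exact (Quotient.out_eq _)
  have hrep' : ∀ m m', S.r m m' → rep m = rep m' := fun m m' h =>
    congrArg Quotient.out (Quotient.sound h)
  have hrepi : ∀ m, rep (rep m) = rep m := fun m => hrep' _ _ (hrep m)
  -- the stabiliser of an ideal acts faithfully on the residue field
  have hlocal : ∀ m : MaximalSpectrum R, ∃ t : R, ∀ c : X → R, (∀ g : X,
      ∑ h, (if ∀ r, r ∈ m.asIdeal ↔ (g * h) • r ∈ m.asIdeal then (g * h) • t * c h else 0) ∈ m.asIdeal) →
      ∀ h, c h ∈ m.asIdeal := by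
    intro m
    haveI := m.isMaximal
    let Xm : Subgroup X :=
      { carrier := {f | ∀ r, r ∈ m.asIdeal ↔ f • r ∈ m.asIdeal}
        one_mem' := fun r => by rw [one_smul]
        mul_mem' := fun {a b} ha hb r => by rw [hb, ha, mul_smul]
        inv_mem' := fun {a} ha r => by rw [ha (a⁻¹ • r), smul_inv_smul] }
    let π := Ideal.Quotient.mk m.asIdeal
    let T : Xm → R ⧸ m.asIdeal →+* R ⧸ m.asIdeal := fun f =>
      Ideal.Quotient.lift m.asIdeal (π.comp (MulSemiringAction.toRingHom X R f.1))
        fun r hr => Ideal.Quotient.eq_zero_iff_mem.2 ((f.2 r).1 hr)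
    have hT : ∀ f r, T f (π r) = π (f.1 • r) := fun f r => rfl
    letI : Field (R ⧸ m.asIdeal) := Ideal.Quotient.field m.asIdeal
    letI : MulSemiringAction Xm (R ⧸ m.asIdeal) :=
      { smul := fun f q => T f q
        one_smul := fun q => by
          obtain ⟨r, rfl⟩ := Ideal.Quotient.mk_surjective q
          show T 1 (π r) = π r
          rw [hT, OneMemClass.coe_one, one_smul]
        mul_smul := fun f g q => by
          obtain ⟨r, rfl⟩ := Ideal.Quotient.mk_surjective q
          show T (f * g) (π r) = T f (T g (π r))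
          rw [hT, hT, hT, Subgroup.coe_mul, mul_smul]
        smul_zero := fun f => map_zero (T f)
        smul_add := fun f => map_add (T f)
        smul_one := fun f => map_one (T f)
        smul_mul := fun f => map_mul (T f) }
    haveI : FaithfulSMul Xm (R ⧸ m.asIdeal) := ⟨fun {f g} h => by
      by_contra hne
      obtain ⟨r, hr⟩ := hfree (g⁻¹ * f : Xm).1
        (fun e => hne (inv_mul_eq_one.1 (Subtype.ext e)).symm) m.asIdeal m.isMaximal
      refine hr (Ideal.Quotient.eq.1 ?_)
      show T (g⁻¹ * f) (π r) = π r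
      show (g⁻¹ * f) • π r = π r
      rw [mul_smul, h, inv_smul_smul]⟩
    obtain ⟨θ₀, hθ₀⟩ := exists_translateMatrix_field (X := Xm) (K := R ⧸ m.asIdeal)
    obtain ⟨t, rfl⟩ := Ideal.Quotient.mk_surjective θ₀
    refine ⟨t, fun c hc h₀ => ?_⟩
    have hmul : translateMatrix (X := Xm) (π t) *ᵥ (fun x : Xm => π (c (h₀ * x.1))) = 0 := by
      refine funext fun y => ?_
      have h1 := Ideal.Quotient.eq_zero_iff_mem.2 (hc (y.1 * h₀⁻¹))
      rw [← Equiv.sum_comp (Equiv.mulLeft h₀), map_sum] at h1
      rw [Pi.zero_apply, ← h1]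
      simp only [Equiv.coe_mulLeft, mul_assoc, inv_mul_cancel_left]
      simp only [Matrix.mulVec, dotProduct, translateMatrix, Matrix.of_apply]
      refine (Fintype.sum_of_injective (Subtype.val : Xm → X) Subtype.val_injective _ _ (fun x hx => ?_)
        fun x => ?_)
      · rw [if_neg, map_zero]
        intro hmem
        refine hx ⟨⟨x, ?_⟩, rfl⟩
        have h2 : y.1 * x ∈ Xm := hmem
        exact (Subgroup.mul_mem_cancel_left _ y.2).1 h2
      · have hmem : y.1 * x.1 ∈ Xm := mul_mem y.2 x.2
        rw [if_pos (show ∀ r, r ∈ m.asIdeal ↔ (y.1 * x.1) • r ∈ m.asIdeal from hmem), map_mul]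
        rfl
    have h2 := congrFun (Matrix.eq_zero_of_mulVec_eq_zero hθ₀ hmul) 1
    simpa [π, Ideal.Quotient.eq_zero_iff_mem] using h2
  choose t ht using hlocal
  obtain ⟨θ, hθ⟩ := Ideal.exists_forall_sub_mem_ideal (I := fun m : MaximalSpectrum R => m.asIdeal)
    (fun m m' hne => Ideal.isCoprime_iff_sup_eq.2
      (m.isMaximal.coprime_of_ne m'.isMaximal fun h => hne (MaximalSpectrum.ext h)))
    (fun m => if rep m = m then t m else 0)
  have hrepdet : ∀ m : MaximalSpectrum R, rep m = m → (translateMatrix (X := X) θ).det ∉ m.asIdeal := by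
    intro m hm hdet
    haveI := m.isMaximal
    letI : Field (R ⧸ m.asIdeal) := Ideal.Quotient.field m.asIdeal
    have h0 : ((translateMatrix (X := X) θ).map (Ideal.Quotient.mk m.asIdeal)).det = 0 := by
      rw [← RingHom.mapMatrix_apply, ← RingHom.map_det, Ideal.Quotient.eq_zero_iff_mem]
      exact hdet
    obtain ⟨v, hv0, hv⟩ := Matrix.exists_mulVec_eq_zero_iff.2 h0
    choose c hc using fun h => Ideal.Quotient.mk_surjective (v h)
    refine hv0 (funext fun h => ?_)
    rw [← hc h]
    refine Ideal.Quotient.eq_zero_iff_mem.2 (ht m c (fun g => ?_) h)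
    have hg := congrFun hv g
    rw [Pi.zero_apply] at hg
    rw [← Ideal.Quotient.eq_zero_iff_mem, map_sum, ← hg]
    refine Finset.sum_congr rfl fun h _ => ?_
    simp only [Matrix.map_apply, translateMatrix, Matrix.of_apply, ← hc h, ← map_mul]
    refine Ideal.Quotient.eq.2 ?_
    obtain ⟨x, hx⟩ : ∃ x, x = g * h := ⟨_, rfl⟩
    rw [← hx]
    haveI hmax : (m.asIdeal.comap (MulSemiringAction.toRingHom X R x)).IsMaximal :=
      Ideal.comap_isMaximal_of_surjective _ fun r => ⟨x⁻¹ • r, smul_inv_smul x r⟩
    let m' : MaximalSpectrum R := ⟨_, hmax⟩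
    have hmem : ∀ r, r ∈ m'.asIdeal ↔ x • r ∈ m.asIdeal := fun r => Iff.rfl
    have hrep1 : rep m' = m := by rw [← hrep' m m' ⟨x, hmem⟩, hm]
    by_cases hs : ∀ r, r ∈ m.asIdeal ↔ x • r ∈ m.asIdeal
    · rw [if_pos hs, ← sub_mul, ← smul_sub]
      refine Ideal.mul_mem_right _ _ ((hs _).1 ?_)
      have h1 := hθ m
      rw [if_pos hm, ← neg_mem_iff, neg_sub] at h1
      exact h1
    · rw [if_neg hs]
      have hne : rep m' ≠ m' := fun e => hs fun r => by
        rw [show m.asIdeal = m'.asIdeal by rw [← hrep1, e]]
        rw [hmem]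
        rw [show m'.asIdeal = m.asIdeal by rw [← hrep1, e]]
      have h1 := hθ m'
      rw [if_neg hne, sub_zero, hmem] at h1
      rw [zero_sub, neg_mem_iff]
      exact Ideal.mul_mem_right _ _ h1
  refine ⟨θ, ?_⟩
  by_contra hunit
  obtain ⟨m, hmax, hdet⟩ := exists_max_ideal_of_mem_nonunits (mem_nonunits_iff.2 hunit)
  obtain ⟨f, hf⟩ := hrep ⟨m, hmax⟩
  refine hrepdet (rep ⟨m, hmax⟩) (hrepi _) ?_
  have hperm : (translateMatrix (X := X) θ).map (MulSemiringAction.toRingHom X R f) =
      (translateMatrix (X := X) θ).submatrix (Equiv.mulLeft f) id := by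
    ext g h
    simp [translateMatrix, smul_smul, mul_assoc]
  have h1 : f • (translateMatrix (X := X) θ).det ∈ (rep ⟨m, hmax⟩).asIdeal := (hf _).1 hdet
  have h2 : f • (translateMatrix (X := X) θ).det =
      (Equiv.Perm.sign (Equiv.mulLeft f) : R) * (translateMatrix (X := X) θ).det := by
    rw [← Matrix.det_permute, ← hperm]
    exact RingHom.map_det (MulSemiringAction.toRingHom X R f) _
  rw [h2] at h1
  rcases Int.units_eq_one_or (Equiv.Perm.sign (Equiv.mulLeft f)) with hs | hs <;>
    simpa [hs] using h1

end CfsgLib.Rep
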