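import Mathlib
import Cfsg.Agent.Lib.Rep.EtaleNormalBasis

/-!
# Modules that are free over a group of fixed-point-free operators

If `H` acts without fixed points on a nilpotent group `N` of invertible order and both act compatibly on
a finite-dimensional space on which `N` fixes no nonzero vector, then the space is free over `H`.
-/

set_option autoImplicit false
set_option linter.all false

namespace CfsgLib.Rep

open Matrix

universe u v w

variable {k : Type v} [Field k] {H : Type*} [Group H]

/-- the space is the direct sum of the translates of some subspace -/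
def FreeOn [Fintype H] {V : Type w} [AddCommGroup V] [Module k V] (ρH : H →* Module.End k V) : Prop :=
  ∃ W : Submodule k V, Function.Bijective fun w : H → W => ∑ h, ρH h (w h : V)

/-- the restriction of a representation to an invariant subspace -/
def resRep {G : Type*} [Monoid G] {V : Type w} [AddCommGroup V] [Module k V] (ρ : G →* Module.End k V)
    (U : Submodule k V) (hU : ∀ g, ∀ v ∈ U, ρ g v ∈ U) : G →* Module.End k U where
  toFun g := (ρ g).restrict (hU g)
  map_one' := LinearMap.ext fun v => Subtype.ext (by simp)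
  map_mul' a b := LinearMap.ext fun v => Subtype.ext (by simp)

theorem resRep_coe {G : Type*} [Monoid G] {V : Type w} [AddCommGroup V] [Module k V] (ρ : G →* Module.End k V)
    (U : Submodule k V) (hU : ∀ g, ∀ v ∈ U, ρ g v ∈ U) (g : G) (v : U) :
    ((resRep ρ U hU g v : U) : V) = ρ g v := rfl

/-- freeness passes to a direct sum -/
theorem freeOn_of_isCompl [Fintype H] {V : Type w} [AddCommGroup V] [Module k V]
    {ρH : H →* Module.End k V} {U₀ U₁ : Submodule k V} (hc : IsCompl U₀ U₁)
    (h₀ : ∀ h, ∀ v ∈ U₀, ρH h v ∈ U₀) (h₁ : ∀ h, ∀ v ∈ U₁, ρH h v ∈ U₁)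
    (hf₀ : FreeOn (resRep ρH U₀ h₀)) (hf₁ : FreeOn (resRep ρH U₁ h₁)) : FreeOn ρH := by
  classical
  obtain ⟨W₀, hW₀⟩ := hf₀
  obtain ⟨W₁, hW₁⟩ := hf₁
  refine ⟨W₀.map U₀.subtype ⊔ W₁.map U₁.subtype, fun w w' e => ?_, fun v => ?_⟩
  · have hd : ∀ h, ∃ a : W₀, ∃ b : W₁, ((a : U₀) : V) + ((b : U₁) : V) = (w h : V) - w' h := by
      intro h
      obtain ⟨x, hx, y, hy, hxy⟩ := Submodule.mem_sup.1 (Submodule.sub_mem _ (w h).2 (w' h).2)
      obtain ⟨a, ha, rfl⟩ := Submodule.mem_map.1 hx
      obtain ⟨b, hb, rfl⟩ := Submodule.mem_map.1 hy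
      exact ⟨⟨a, ha⟩, ⟨b, hb⟩, hxy⟩
    choose a b hab using hd
    have hz : ((∑ h, resRep ρH U₀ h₀ h (a h : U₀) : U₀) : V) +
        ((∑ h, resRep ρH U₁ h₁ h (b h : U₁) : U₁) : V) = 0 := by
      simp only [AddSubmonoidClass.coe_finset_sum, resRep_coe]
      rw [← Finset.sum_add_distrib]
      simp only [← map_add, hab, map_sub, Finset.sum_sub_distrib]
      exact sub_eq_zero.2 e
    have hA : (∑ h, resRep ρH U₀ h₀ h (a h : U₀) : U₀) = 0 := by
      refine Subtype.ext (Submodule.disjoint_def.1 hc.disjoint _ (Subtype.coe_prop _) ?_)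
      rw [eq_neg_of_add_eq_zero_left hz]
      exact Submodule.neg_mem _ (Subtype.coe_prop _)
    have hB : (∑ h, resRep ρH U₁ h₁ h (b h : U₁) : U₁) = 0 := by
      refine Subtype.ext ?_
      rw [hA] at hz
      simpa using hz
    have ha : a = 0 := hW₀.1 (hA.trans (by simp))
    have hb : b = 0 := hW₁.1 (hB.trans (by simp))
    refine funext fun h => Subtype.ext (sub_eq_zero.1 ?_)
    rw [← hab h, ha, hb]
    simp
  · have hv : v ∈ U₀ ⊔ U₁ := hc.sup_eq_top ▸ Submodule.mem_top
    obtain ⟨x, hx, y, hy, rfl⟩ := Submodule.mem_sup.1 hv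
    obtain ⟨a, ha⟩ := hW₀.2 ⟨x, hx⟩
    obtain ⟨b, hb⟩ := hW₁.2 ⟨y, hy⟩
    have ha' := congrArg Subtype.val ha
    have hb' := congrArg Subtype.val hb
    simp only [AddSubmonoidClass.coe_finset_sum, resRep_coe] at ha' hb'
    refine ⟨fun h => ⟨((a h : U₀) : V) + ((b h : U₁) : V), Submodule.add_mem_sup ⟨_, (a h).2, rfl⟩ ⟨_, (b h).2, rfl⟩⟩, ?_⟩
    show ∑ h, ρH h (((a h : U₀) : V) + ((b h : U₁) : V)) = x + y
    simp only [map_add, Finset.sum_add_distrib, ha', hb']

/-- the abelian case -/
theorem freeOn_of_comm [Fintype H] {N : Type u} [Group N] [Finite N] (hcomm : ∀ a b : N, a * b = b * a)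
    {V : Type w} [AddCommGroup V] [Module k V] [FiniteDimensional k V]
    (σ : H →* MulAut N) (ρH : H →* Module.End k V) (ρN : N →* Module.End k V)
    (hcompat : ∀ h n, ρH h * ρN n = ρN (σ h n) * ρH h) (hfpf : ∀ h : H, h ≠ 1 → ∀ n, σ h n = n → n = 1)
    (hunit : (Nat.card N : k) ≠ 0) (hfix : ∀ v, (∀ n, ρN n v = v) → v = 0) : FreeOn ρH := by
  classical
  haveI := Fintype.ofFinite N
  letI : CommGroup N := { (inferInstance : Group N) with mul_comm := hcomm }
  let R : Subalgebra k (Module.End k V) := (MonoidAlgebra.lift k (Module.End k V) N ρN).range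
  letI : CommRing R :=
    { (inferInstance : Ring R) with
      mul_comm := fun a b => Subtype.ext (by
        obtain ⟨x, hx⟩ := a.2
        obtain ⟨y, hy⟩ := b.2
        show (a : Module.End k V) * b = b * a
        rw [← hx, ← hy]
        show MonoidAlgebra.lift k (Module.End k V) N ρN x * MonoidAlgebra.lift k (Module.End k V) N ρN y =
          MonoidAlgebra.lift k (Module.End k V) N ρN y * MonoidAlgebra.lift k (Module.End k V) N ρN x
        rw [← map_mul, ← map_mul, mul_comm]) }
  haveI : FiniteDimensional k R := FiniteDimensional.finiteDimensional_submodule R.toSubmodule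
  haveI : IsArtinianRing R := IsArtinianRing.of_finite k R
  have hinv : ∀ h : H, ρH h⁻¹ * ρH h = 1 := fun h => by rw [← map_mul, inv_mul_cancel, map_one]
  have hinv' : ∀ h : H, ρH h * ρH h⁻¹ = 1 := fun h => by rw [← map_mul, mul_inv_cancel, map_one]
  have hνmem : ∀ n, ρN n ∈ R := fun n => ⟨MonoidAlgebra.of k N n, MonoidAlgebra.lift_of ρN n⟩
  have hconj : ∀ h n, ρH h * ρN n * ρH h⁻¹ = ρN (σ h n) := fun h n => by
    rw [hcompat, mul_assoc, hinv', mul_one]
  have hmem : ∀ (h : H) (r : R), ρH h * (r : Module.End k V) * ρH h⁻¹ ∈ R := by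
    rintro h ⟨_, x, rfl⟩
    show ρH h * MonoidAlgebra.lift k (Module.End k V) N ρN x * ρH h⁻¹ ∈ R
    induction x using MonoidAlgebra.induction_on with
    | of n => rw [MonoidAlgebra.lift_of, hconj]; exact hνmem _
    | add a b ha hb => rw [map_add, mul_add, add_mul]; exact add_mem ha hb
    | smul c a ha => rw [map_smul, mul_smul_comm, smul_mul_assoc]; exact Subalgebra.smul_mem _ ha c
  letI : MulSemiringAction H R :=
    { smul := fun h r => ⟨ρH h * (r : Module.End k V) * ρH h⁻¹, hmem h r⟩
      one_smul := fun r => Subtype.ext (by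
        show ρH 1 * (r : Module.End k V) * ρH (1 : H)⁻¹ = r
        simp)
      mul_smul := fun a b r => Subtype.ext (by
        show ρH (a * b) * (r : Module.End k V) * ρH (a * b)⁻¹ = ρH a * (ρH b * r * ρH b⁻¹) * ρH a⁻¹
        simp only [_root_.mul_inv_rev, map_mul, mul_assoc])
      smul_zero := fun h => Subtype.ext (by
        show ρH h * ((0 : R) : Module.End k V) * ρH h⁻¹ = 0
        simp)
      smul_add := fun h x y => Subtype.ext (by
        show ρH h * ((x : Module.End k V) + y) * ρH h⁻¹ = ρH h * x * ρH h⁻¹ + ρH h * y * ρH h⁻¹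
        rw [mul_add, add_mul])
      smul_one := fun h => Subtype.ext (by
        show ρH h * (1 : Module.End k V) * ρH h⁻¹ = 1
        rw [mul_one, hinv'])
      smul_mul := fun h x y => Subtype.ext (by
        show ρH h * ((x : Module.End k V) * y) * ρH h⁻¹ =
          ρH h * x * ρH h⁻¹ * (ρH h * y * ρH h⁻¹)
        simp only [mul_assoc]
        rw [← mul_assoc (ρH h⁻¹) (ρH h), hinv, one_mul]) }
  have hact : ∀ (h : H) (r : R) (v : V), ρH h ((r : Module.End k V) v) = ((h • r : R) : Module.End k V) (ρH h v) := by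
    intro h r v
    show ρH h ((r : Module.End k V) v) = (ρH h * (r : Module.End k V) * ρH h⁻¹ * ρH h) v
    rw [mul_assoc, hinv, mul_one]
    rfl
  have hfree : ∀ f : H, f ≠ 1 → ∀ m : Ideal R, m.IsMaximal → ∃ r, f • r - r ∉ m := by
    intro f hf m hm
    by_contra hno
    push Not at hno
    let ν : N →* R := { toFun := fun n => ⟨ρN n, hνmem n⟩, map_one' := Subtype.ext (map_one ρN),
                        map_mul' := fun a b => Subtype.ext (map_mul ρN a b) }
    have hdinj : Function.Injective fun n : N => n * σ f n⁻¹ := by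
      intro a b e
      have e' : a * (σ f a)⁻¹ = b * (σ f b)⁻¹ := by simpa using e
      have h2 : σ f (b⁻¹ * a) = b⁻¹ * a := by
        rw [map_mul, map_inv, inv_mul_eq_iff_eq_mul]
        calc σ f a = (a * (σ f a)⁻¹)⁻¹ * a := by group
          _ = (b * (σ f b)⁻¹)⁻¹ * a := by rw [e']
          _ = σ f b * (b⁻¹ * a) := by group
      exact (inv_mul_eq_one.1 (hfpf f hf _ h2)).symm
    have hsum : ∑ n, ν n = 0 := by
      refine Subtype.ext (LinearMap.ext fun v => ?_)
      simp only [AddSubmonoidClass.coe_finset_sum, LinearMap.sum_apply, ZeroMemClass.coe_zero, LinearMap.zero_apply]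
      refine hfix _ fun n => ?_
      rw [map_sum]
      refine Fintype.sum_equiv (Equiv.mulLeft n) _ _ fun x => ?_
      show ρN n (ρN x v) = ρN (n * x) v
      rw [map_mul]; rfl
    have h1 : ∀ n, ν (n * σ f n⁻¹) - 1 ∈ m := by
      intro n
      have h3 : f • ν n⁻¹ = ν (σ f n⁻¹) := Subtype.ext (hconj f n⁻¹)
      have h4 := m.mul_mem_left (ν n) (hno (ν n⁻¹))
      rw [h3, mul_sub, ← map_mul, ← map_mul, mul_inv_cancel, map_one] at h4
      exact h4
    have h2 := Submodule.sum_mem m (fun n (_ : n ∈ Finset.univ) => h1 n)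
    rw [Finset.sum_sub_distrib, (Finite.injective_iff_bijective.1 hdinj).sum_comp (fun x => ν x), hsum,
      zero_sub, neg_mem_iff, Finset.sum_const, Finset.card_univ, nsmul_one, ← Nat.card_eq_fintype_card,
      ← map_natCast (algebraMap k R)] at h2
    exact hm.ne_top (Ideal.eq_top_of_isUnit_mem _ h2 ((Ne.isUnit hunit).map _))
  obtain ⟨θ, hθ⟩ := exists_translateMatrix hfree
  set M := translateMatrix (X := H) θ with hM
  have hMA : M * M⁻¹ = 1 := Matrix.mul_nonsing_inv _ hθ
  have hAM : M⁻¹ * M = 1 := Matrix.nonsing_inv_mul _ hθ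
  have hA : ∀ f h g : H, f • M⁻¹ h g = M⁻¹ h (f * g) := by
    intro f h g
    have e1 : M⁻¹.map (MulSemiringAction.toRingHom H R f) * M.submatrix (Equiv.mulLeft f) id = 1 := by
      have e0 : M.submatrix (Equiv.mulLeft f) id = M.map (MulSemiringAction.toRingHom H R f) := by
        ext a b
        simp [hM, translateMatrix, smul_smul, mul_assoc]
      rw [e0, ← Matrix.map_mul, hAM, Matrix.map_one _ (map_zero _) (map_one _)]
    have e2 : M⁻¹.submatrix id (Equiv.mulLeft f) * M.submatrix (Equiv.mulLeft f) id = 1 := by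
      rw [Matrix.submatrix_mul_equiv, hAM, Matrix.submatrix_id_id]
    have e3 := (Matrix.inv_eq_left_inv e1).symm.trans (Matrix.inv_eq_left_inv e2)
    exact congrFun (congrFun e3 h) g
  have hcomp : ∀ (r s : R) (v : V), (r : Module.End k V) ((s : Module.End k V) v) = ((r * s : R) : Module.End k V) v :=
    fun r s v => rfl
  let F : Submodule k V :=
    { carrier := {v | ∀ h, ρH h v = v}
      zero_mem' := fun h => map_zero _
      add_mem' := fun {a b} ha hb h => by rw [map_add, ha h, hb h]
      smul_mem' := fun c a ha h => by rw [map_smul, ha h] }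
  refine ⟨F.map (θ : Module.End k V), fun w w' e => ?_, fun v => ?_⟩
  · have hd : ∀ h, ∃ x ∈ F, (θ : Module.End k V) x = (w h : V) - w' h := fun h =>
      Submodule.mem_map.1 (Submodule.sub_mem _ (w h).2 (w' h).2)
    choose x hxF hx using hd
    have hz : ∀ g, ∑ h, (M g h : Module.End k V) (x h) = 0 := by
      intro g
      have h1 : ∑ h, ρH h ((θ : Module.End k V) (x h)) = 0 := by
        simp only [hx, map_sub, Finset.sum_sub_distrib]
        exact sub_eq_zero.2 e
      have h2 := congrArg (ρH g) h1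
      rw [map_sum, map_zero] at h2
      rw [← h2]
      refine Finset.sum_congr rfl fun h _ => ?_
      show _ = (ρH g * ρH h) ((θ : Module.End k V) (x h))
      rw [← map_mul, hact, hxF]
      rfl
    refine funext fun i => Subtype.ext (sub_eq_zero.1 ?_)
    have hxi : x i = 0 := by
      have h1 : ∑ g, (M⁻¹ i g : Module.End k V) (∑ h, (M g h : Module.End k V) (x h)) = x i := by
        simp only [map_sum, hcomp]
        rw [Finset.sum_comm]
        simp only [← LinearMap.sum_apply, ← AddSubmonoidClass.coe_finset_sum, ← Matrix.mul_apply, hAM]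
        rw [Finset.sum_eq_single i (fun b _ hb => by simp [Matrix.one_apply_ne hb.symm]) (by simp)]
        simp
      simpa [hz] using h1.symm
    rw [← hx i, hxi, map_zero]
  · have hu : ∀ i, ∑ g, (M⁻¹ i g : Module.End k V) (ρH g v) ∈ F := by
      intro i f
      rw [map_sum]
      refine Fintype.sum_equiv (Equiv.mulLeft f) _ _ fun g => ?_
      rw [hact, hA]
      show _ = (M⁻¹ i (f * g) : Module.End k V) (ρH (f * g) v)
      rw [map_mul]; rfl
    refine ⟨fun i => ⟨_, Submodule.mem_map_of_mem (hu i)⟩, ?_⟩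
    show ∑ h, ρH h ((θ : Module.End k V) (∑ g, (M⁻¹ h g : Module.End k V) (ρH g v))) = v
    have h1 : ∀ h, ρH h ((θ : Module.End k V) (∑ g, (M⁻¹ h g : Module.End k V) (ρH g v))) =
        (M 1 h : Module.End k V) (∑ g, (M⁻¹ h g : Module.End k V) (ρH g v)) := by
      intro h
      rw [hact, hu h h]
      simp [hM, translateMatrix]
    rw [Finset.sum_congr rfl fun h _ => h1 h]
    simp only [map_sum, hcomp]
    rw [Finset.sum_comm]
    simp only [← LinearMap.sum_apply, ← AddSubmonoidClass.coe_finset_sum, ← Matrix.mul_apply, hMA]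
    rw [Finset.sum_eq_single (1 : H) (fun b _ hb => by simp [Matrix.one_apply_ne hb.symm]) (by simp)]
    simp

theorem freeOn_aux [Fintype H] (n : ℕ) : ∀ (N : Type u) [Group N] [Finite N] [Group.IsNilpotent N], Nat.card N ≤ n →
    ∀ (V : Type w) [AddCommGroup V] [Module k V] [FiniteDimensional k V]
      (σ : H →* MulAut N) (ρH : H →* Module.End k V) (ρN : N →* Module.End k V),
      (∀ h n, ρH h * ρN n = ρN (σ h n) * ρH h) → (∀ h : H, h ≠ 1 → ∀ n, σ h n = n → n = 1) →
      (Nat.card N : k) ≠ 0 → (∀ v, (∀ n, ρN n v = v) → v = 0) → FreeOn ρH := by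
  induction n with
  | zero => intro N _ _ _ hn; exact absurd hn (Nat.not_le.2 Nat.card_pos)
  | succ n ih =>
    intro N _ _ _ hn V _ _ _ σ ρH ρN hcompat hfpf hunit hfix
    classical
    rcases subsingleton_or_nontrivial N with hN | hN
    · have h0 : ∀ v : V, v = 0 := fun v => hfix v fun m => by rw [Subsingleton.elim m 1, map_one]; rfl
      exact ⟨⊥, fun w w' _ => funext fun i => Subtype.ext ((h0 _).trans (h0 _).symm),
        fun v => ⟨0, (h0 _).trans (h0 _).symm⟩⟩
    let Z := Subgroup.center N
    haveI := Fintype.ofFinite Z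
    have hZc : ∀ (z : Z) (a : N), a * (z : N) = (z : N) * a := fun z a => Subgroup.mem_center_iff.1 z.2 a
    have hZ : ∀ (h : H) (z : N), z ∈ Z → σ h z ∈ Z := by
      intro h z hz
      refine Subgroup.mem_center_iff.2 fun a => ?_
      obtain ⟨b, rfl⟩ := (σ h).surjective a
      rw [← map_mul, ← map_mul, Subgroup.mem_center_iff.1 hz b]
    have hσσ : ∀ (h : H) (a : N), σ h⁻¹ (σ h a) = a := fun h a => by
      rw [← MulAut.mul_apply, ← map_mul, inv_mul_cancel, map_one]; rfl
    have hσσ' : ∀ (h : H) (a : N), σ h (σ h⁻¹ a) = a := fun h a => by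
      rw [← MulAut.mul_apply, ← map_mul, mul_inv_cancel, map_one]; rfl
    let σZ : H →* MulAut Z :=
      { toFun := fun h =>
          { toFun := fun z => ⟨σ h z, hZ h z z.2⟩
            invFun := fun z => ⟨σ h⁻¹ z, hZ h⁻¹ z z.2⟩
            left_inv := fun z => Subtype.ext (hσσ h z)
            right_inv := fun z => Subtype.ext (hσσ' h z)
            map_mul' := fun a b => Subtype.ext (map_mul (σ h) (a : N) (b : N)) }
        map_one' := MulEquiv.ext fun z => Subtype.ext (by simp)
        map_mul' := fun a b => MulEquiv.ext fun z => Subtype.ext (by simp) }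
    have hfpfZ : ∀ h : H, h ≠ 1 → ∀ z, σZ h z = z → z = 1 := fun h hh z e =>
      Subtype.ext (hfpf h hh z (congrArg Subtype.val e))
    let S : Module.End k V := ∑ z : Z, ρN z
    let U₀ : Submodule k V :=
      { carrier := {v | ∀ z : Z, ρN z v = v}
        zero_mem' := fun h => map_zero _
        add_mem' := fun {a b} ha hb h => by rw [map_add, ha h, hb h]
        smul_mem' := fun c a ha h => by rw [map_smul, ha h] }
    have hSz : ∀ (z : Z) v, ρN z (S v) = S v := by
      intro z v
      simp only [S, LinearMap.sum_apply, map_sum]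
      refine Fintype.sum_equiv (Equiv.mulLeft z) _ _ fun x => ?_
      show (ρN z * ρN x) v = ρN ((z : N) * x) v
      rw [map_mul]
    have hSU : ∀ v ∈ U₀, S v = (Nat.card Z : k) • v := by
      intro v hv
      simp only [S, LinearMap.sum_apply]
      rw [Finset.sum_congr rfl fun z _ => hv z, Finset.sum_const, Finset.card_univ, Nat.card_eq_fintype_card,
        Nat.cast_smul_eq_nsmul]
    have hc : (Nat.card Z : k) ≠ 0 := by
      obtain ⟨c, hc⟩ := Subgroup.card_subgroup_dvd_card Z
      rw [hc, Nat.cast_mul] at hunit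
      exact left_ne_zero_of_mul hunit
    have hcompl : IsCompl U₀ (LinearMap.ker S) := by
      refine ⟨Submodule.disjoint_def.2 fun v hv hv' => ?_, codisjoint_iff.2 (eq_top_iff.2 fun v _ => ?_)⟩
      · have h1 := hSU v hv
        rw [LinearMap.mem_ker.1 hv', eq_comm, smul_eq_zero] at h1
        exact h1.resolve_left hc
      · refine Submodule.mem_sup.2 ⟨(Nat.card Z : k)⁻¹ • S v, ?_, v - (Nat.card Z : k)⁻¹ • S v, ?_, by abel⟩
        · exact fun z => by rw [map_smul, hSz]
        · rw [LinearMap.mem_ker, map_sub, map_smul, hSU (S v) fun z => hSz z v, inv_smul_smul₀ hc, sub_self]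
    have hU₀H : ∀ h, ∀ v ∈ U₀, ρH h v ∈ U₀ := by
      intro h v hv z
      have h1 : ρN z * ρH h = ρH h * ρN (σ h⁻¹ z) := by rw [hcompat, hσσ']
      show (ρN z * ρH h) v = ρH h v
      rw [h1]
      exact congrArg (ρH h) (hv ⟨_, hZ h⁻¹ z z.2⟩)
    have hU₀N : ∀ m, ∀ v ∈ U₀, ρN m v ∈ U₀ := by
      intro m v hv z
      show (ρN z * ρN m) v = ρN m v
      rw [← map_mul, ← hZc z m, map_mul]
      exact congrArg (ρN m) (hv z)
    have hU₁H : ∀ h, ∀ v ∈ LinearMap.ker S, ρH h v ∈ LinearMap.ker S := by
      intro h v hv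
      rw [LinearMap.mem_ker] at hv ⊢
      have h1 : S (ρH h v) = ρH h (S v) := by
        simp only [S, LinearMap.sum_apply, map_sum]
        refine (Fintype.sum_equiv (σZ h).toEquiv _ _ fun z => ?_).symm
        show (ρH h * ρN z) v = (ρN (σ h z) * ρH h) v
        rw [hcompat]
      rw [h1, hv, map_zero]
    have hU₁Z : ∀ z : Z, ∀ v ∈ LinearMap.ker S, ρN z v ∈ LinearMap.ker S := by
      intro z v hv
      rw [LinearMap.mem_ker] at hv ⊢
      have h1 : S (ρN z v) = ρN z (S v) := by
        simp only [S, LinearMap.sum_apply, map_sum]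
        refine Finset.sum_congr rfl fun x _ => ?_
        show (ρN x * ρN z) v = (ρN z * ρN x) v
        rw [← map_mul, ← map_mul, hZc z]
      rw [h1, hv, map_zero]
    refine freeOn_of_isCompl hcompl hU₀H hU₁H ?_ ?_
    · -- the quotient by the centre acts on the fixed space
      haveI : Z.Normal := inferInstanceAs (Subgroup.center N).Normal
      have hker : Z ≤ (resRep ρN U₀ hU₀N).ker := fun z hz =>
        MonoidHom.mem_ker.2 (LinearMap.ext fun v => Subtype.ext (v.2 ⟨z, hz⟩))
      have hmap : ∀ h, Z.map (σ h).toMonoidHom = Z := fun h => le_antisymm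
        (Subgroup.map_le_iff_le_comap.2 fun z hz => hZ h z hz)
        (fun z hz => ⟨σ h⁻¹ z, hZ h⁻¹ z hz, hσσ' h z⟩)
      let σq : H →* MulAut (N ⧸ Z) :=
        { toFun := fun h => QuotientGroup.congr Z Z (σ h) (hmap h)
          map_one' := MulEquiv.ext fun q => by
            induction q using QuotientGroup.induction_on with
            | H a => simp
          map_mul' := fun a b => MulEquiv.ext fun q => by
            induction q using QuotientGroup.induction_on with
            | H x =>
              show ((σ (a * b) x : N) : N ⧸ Z) = ((σ a (σ b x) : N) : N ⧸ Z)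
              rw [map_mul]
              rfl }
      have hlt : Nat.card (N ⧸ Z) ≤ n := by
        have h1 := Subgroup.card_eq_card_quotient_mul_card_subgroup Z
        have h2 : 1 < Nat.card Z :=
          (Subgroup.one_lt_card_iff_ne_bot _).2 (Group.IsNilpotent.center_ne_bot N)
        have h3 : 0 < Nat.card (N ⧸ Z) := Nat.card_pos
        nlinarith
      refine ih (N ⧸ Z) hlt U₀ σq (resRep ρH U₀ hU₀H) (QuotientGroup.lift Z (resRep ρN U₀ hU₀N) hker) ?_ ?_ ?_ ?_
      · intro h q
        induction q using QuotientGroup.induction_on with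
        | H a => exact LinearMap.ext fun v => Subtype.ext (LinearMap.congr_fun (hcompat h a) (v : V))
      · intro h hh q e
        induction q using QuotientGroup.induction_on with
        | H a =>
          have e' : ((σ h a : N) : N ⧸ Z) = (a : N ⧸ Z) := e
          have hz : a⁻¹ * σ h a ∈ Z := QuotientGroup.eq.1 e'.symm
          have hinj : Function.Injective fun z : Z => z⁻¹ * σZ h z := by
            intro x y exy
            have h1 : (x : N)⁻¹ * σ h x = (y : N)⁻¹ * σ h y := congrArg Subtype.val exy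
            refine mul_inv_eq_one.1 (Subtype.ext (hfpf h hh _ ?_))
            show σ h ((x : N) * (y : N)⁻¹) = (x : N) * (y : N)⁻¹
            rw [map_mul, map_inv, show σ h x = (x : N) * ((y : N)⁻¹ * σ h y) by rw [← h1]; group]
            group
          obtain ⟨z, hz0⟩ := (Finite.injective_iff_surjective.1 hinj) ⟨_, hz⟩
          have hz1 : (z : N)⁻¹ * σ h z = a⁻¹ * σ h a := congrArg Subtype.val hz0
          have h2 : a * (z : N)⁻¹ = 1 := by
            refine hfpf h hh _ ?_
            rw [map_mul, map_inv, show σ h a = a * ((z : N)⁻¹ * σ h z) by rw [hz1]; group]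
            group
          rw [mul_inv_eq_one] at h2
          exact (QuotientGroup.eq_one_iff a).2 (h2 ▸ z.2)
      · have h1 := Subgroup.card_eq_card_quotient_mul_card_subgroup Z
        rw [h1, Nat.cast_mul] at hunit
        exact left_ne_zero_of_mul hunit
      · exact fun v hv => Subtype.ext (hfix v fun a => congrArg Subtype.val (hv a))
    · refine freeOn_of_comm (N := Z) (fun a b => Subtype.ext (hZc b a)) σZ (resRep ρH _ hU₁H)
        (resRep (ρN.comp Z.subtype) _ hU₁Z) ?_ hfpfZ hc ?_
      · exact fun h z => LinearMap.ext fun v => Subtype.ext (LinearMap.congr_fun (hcompat h z) (v : V))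
      · exact fun v hv => Subtype.ext (Submodule.disjoint_def.1 hcompl.disjoint _
          (fun z => congrArg Subtype.val (hv z)) v.2)

/-- If `H` acts without fixed points on a nilpotent `N` of invertible order fixing no nonzero vector,
the space is free over `H`. -/
theorem freeOn_of_fpf [Fintype H] {N : Type u} [Group N] [Finite N] [Group.IsNilpotent N]
    {V : Type w} [AddCommGroup V] [Module k V] [FiniteDimensional k V]
    (σ : H →* MulAut N) (ρH : H →* Module.End k V) (ρN : N →* Module.End k V)
    (hcompat : ∀ h n, ρH h * ρN n = ρN (σ h n) * ρH h) (hfpf : ∀ h : H, h ≠ 1 → ∀ n, σ h n = n → n = 1)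
    (hunit : (Nat.card N : k) ≠ 0) (hfix : ∀ v, (∀ n, ρN n v = v) → v = 0) : FreeOn ρH :=
  freeOn_aux _ N le_rfl V σ ρH ρN hcompat hfpf hunit hfix

end CfsgLib.Rep
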