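/-
A finite matrix group over the fraction field of a principal ideal domain has an integral form.
-/
import Mathlib

set_option autoImplicit false
set_option linter.unusedSectionVars false

namespace CfsgLib.Rep.IntegralForm

open Matrix

variable {A K : Type*} [CommRing A] [IsDomain A] [IsPrincipalIdealRing A] [Field K] [Algebra A K]
  [IsFractionRing A K]

theorem exists_integral_form {G : Type*} [Group G] [Finite G] {n : ℕ}
    (R₀ : G →* Matrix (Fin n) (Fin n) K) :
    ∃ R : G →* Matrix (Fin n) (Fin n) A, ∀ g,
      algebraMap A K (R g).trace = (R₀ g).trace := by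
  classical
  let L : Submodule A (Fin n → K) :=
    Submodule.span A (Set.range fun q : G × Fin n => R₀ q.1 *ᵥ Pi.single q.2 1)
  haveI hfin : Module.Finite A L := Module.Finite.span_of_finite A (Set.finite_range _)
  have hinj : Function.Injective (algebraMap A K) := IsFractionRing.injective A K
  haveI : FaithfulSMul A K := (faithfulSMul_iff_algebraMap_injective A K).2 hinj
  haveI : Module.IsTorsionFree A K := Module.IsTorsionFree.trans_faithfulSMul A K K
  haveI : Module.Free A L := Module.free_of_finite_type_torsion_free'
  let b := Module.Free.chooseBasis A L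
  let ι := Module.Free.ChooseBasisIndex A L
  have hmap : ∀ g v, v ∈ L → R₀ g *ᵥ v ∈ L := by
    intro g v hv
    induction hv using Submodule.span_induction with
    | mem v hv =>
      obtain ⟨⟨h, i⟩, rfl⟩ := hv
      exact Submodule.subset_span ⟨(g * h, i), by simp only [map_mul, mulVec_mulVec]⟩
    | zero => rw [mulVec_zero]; exact zero_mem _
    | add a b _ _ ha hb => rw [mulVec_add]; exact add_mem ha hb
    | smul a v _ hv => rw [mulVec_smul]; exact L.smul_mem a hv
  have hliA : LinearIndependent A (fun i => ((b i : L) : Fin n → K)) :=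
    b.linearIndependent.map' L.subtype (Submodule.ker_subtype L)
  have hli : LinearIndependent K (fun i => ((b i : L) : Fin n → K)) :=
    (LinearIndependent.iff_fractionRing A K).1 hliA
  have hspan : ⊤ ≤ Submodule.span K (Set.range fun i => ((b i : L) : Fin n → K)) := by
    have hLK : ∀ v ∈ L, v ∈ Submodule.span K (Set.range fun i => ((b i : L) : Fin n → K)) := by
      intro v hv
      have h := congrArg (fun w : L => (w : Fin n → K)) (b.sum_repr ⟨v, hv⟩)
      simp only [Submodule.coe_sum, Submodule.coe_smul] at h
      rw [← h]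
      exact Submodule.sum_mem _ fun i _ => by
        rw [← algebraMap_smul K]
        exact Submodule.smul_mem _ _ (Submodule.subset_span ⟨i, rfl⟩)
    intro v _
    rw [pi_eq_sum_univ' v]
    refine Submodule.sum_mem _ fun i _ => Submodule.smul_mem _ _ ?_
    exact hLK _ (Submodule.subset_span ⟨(1, i), by simp only [map_one, one_mulVec]⟩)
  let B0 := Module.Basis.mk hli hspan
  haveI : Fintype ι := inferInstance
  have hcard : Fintype.card ι = n := by
    rw [← Module.finrank_eq_card_basis B0, Module.finrank_fin_fun]
  let e : ι ≃ Fin n := Fintype.equivFinOfCardEq hcard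
  let bA : Module.Basis (Fin n) A L := b.reindex e
  let B : Matrix (Fin n) (Fin n) K := Matrix.of fun r c => ((bA c : L) : Fin n → K) r
  have hBv : ∀ c, B *ᵥ c = ∑ i, c i • ((bA i : L) : Fin n → K) := by
    intro c
    funext r
    simp [B, mulVec, dotProduct, Finset.sum_apply, mul_comm]
  have hBinj : IsUnit B := by
    rw [← mulVec_injective_iff_isUnit]
    intro c d h
    rw [hBv, hBv] at h
    have hli' : LinearIndependent K (fun i => ((bA i : L) : Fin n → K)) := by
      have := hli.comp e.symm e.symm.injective
      simpa [bA, Function.comp_def] using this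
    funext i
    have h0 : ∑ i, (c i - d i) • ((bA i : L) : Fin n → K) = 0 := by
      simp [sub_smul, Finset.sum_sub_distrib, h]
    exact sub_eq_zero.1 (Fintype.linearIndependent_iff.1 hli' _ h0 i)
  let R : G → Matrix (Fin n) (Fin n) A := fun g =>
    Matrix.of fun r c => bA.repr ⟨R₀ g *ᵥ (bA c : L), hmap g _ (bA c).2⟩ r
  have hRB : ∀ g, R₀ g * B = B * (R g).map (algebraMap A K) := by
    intro g
    ext r c
    have h := congrArg (fun w : L => (w : Fin n → K) r) (bA.sum_repr ⟨R₀ g *ᵥ (bA c : L), hmap g _ (bA c).2⟩)
    simp only [Submodule.coe_sum, Submodule.coe_smul, Finset.sum_apply, Pi.smul_apply] at h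
    rw [mul_apply, mul_apply]
    simp only [map_apply, B, R, of_apply]
    rw [show ∑ j, R₀ g r j * ((bA c : L) : Fin n → K) j = (R₀ g *ᵥ (bA c : L)) r from rfl, ← h]
    exact Finset.sum_congr rfl fun j _ => by rw [Algebra.smul_def, mul_comm]
  have hmapinj : Function.Injective fun M : Matrix (Fin n) (Fin n) A => M.map (algebraMap A K) :=
    fun M N h => Matrix.ext fun i j => hinj (congrFun (congrFun h i) j)
  let Rh : G →* Matrix (Fin n) (Fin n) A :=
    { toFun := R
      map_one' := hmapinj (hBinj.mul_left_cancel (by
        simp only [← hRB, map_one, one_mul]; rw [Matrix.map_one _ (map_zero _) (map_one _), mul_one]))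
      map_mul' := fun g h => hmapinj (hBinj.mul_left_cancel (by
        simp only [← hRB, map_mul]; rw [Matrix.map_mul, ← mul_assoc, ← hRB, mul_assoc, mul_assoc, hRB])) }
  refine ⟨Rh, fun g => ?_⟩
  obtain ⟨U, hU⟩ := hBinj
  have h : (R g).map (algebraMap A K) = (↑U⁻¹ : Matrix (Fin n) (Fin n) K) * R₀ g * U := by
    rw [hU, mul_assoc, hRB, ← hU, ← mul_assoc, Units.inv_mul, one_mul]
  show algebraMap A K (R g).trace = _
  rw [show algebraMap A K (R g).trace = ((R g).map (algebraMap A K)).trace from AddMonoidHom.map_trace (algebraMap A K).toAddMonoidHom _]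
  rw [h, trace_mul_cycle, Units.mul_inv, one_mul]

end CfsgLib.Rep.IntegralForm
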